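import Mathlib

/-!
# The arithmetic of the suborbits of a group of Janko-four type on the cosets of `N(V)` (owner: helper14)

A suborbit without fixed duad is described by `(s, k, b)`: its size, the number of conjugates of `z` of `V` fixing
one of its points, and whether five divides the stabiliser. Only one multiset of types meets the two counts.
-/

set_option autoImplicit false
set_option maxRecDepth 100000

namespace CfsgLib.JankoFour.RankSeven

/-- The order of the normalizer of `V`. -/
abbrev ordN : ℕ := 501397585920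

/-- The points left by the three explicit suborbits and the one with an element of order twenty-three. -/
abbrev restR : ℕ := 90448512

/-- Their weighted count of fixed conjugates of `z`. -/
abbrev restK : ℕ := 83647872

/-- A suborbit type. -/
abbrev Ty : Type := ℕ × ℕ × ℕ

/-- The possible types. -/
def types : List Ty := [(81607680, 1, 0), (65286144, 1, 1), (54405120, 0, 0), (48964608, 1, 1), (44513280, 0, 0), (32643072, 1, 1), (27202560, 3, 0), (16321536, 1, 1), (13601280, 3, 0), (3400320, 15, 0), (2040192, 31, 1), (1020096, 31, 1), (850080, 63, 0), (212520, 255, 0), (127512, 511, 1), (77280, 1023, 0), (63756, 511, 1), (57960, 1023, 0), (53130, 1023, 0), (43470, 1023, 0), (38640, 1023, 0), (28980, 1023, 0), (19320, 1023, 0), (14490, 1023, 0), (9660, 1023, 0), (4830, 1023, 0)]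

/-- The index condition at eleven. -/
def valid11 (i a : ℕ) : Bool :=
  [1, 2].any fun q => 2 ^ i * 3 ^ a * 11 % (11 * q) == 0 && 2 ^ i * 3 ^ a * 11 / (11 * q) % 11 == 1

/-- The conditions on the exponents of a stabiliser. -/
def okPar (d i a b e : ℕ) : Bool :=
  (b == 0 || d % 4 == 1) && (a != 2 || (2 ^ d - 1) % 3 == 0) &&
    (e == 0 || (if d == 0 then valid11 i a else (2 ^ d - 1) % 11 == 0))

theorem types_cover : ∀ d : Fin 12, ∀ i : Fin 11, ∀ a : Fin 3, ∀ b : Fin 2, ∀ e : Fin 2,
    okPar d i a b e = true → ordN % (2 ^ (d.1 + i.1) * 3 ^ a.1 * 5 ^ b.1 * 11 ^ e.1) = 0 →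
    ordN / (2 ^ (d.1 + i.1) * 3 ^ a.1 * 5 ^ b.1 * 11 ^ e.1) ≤ restR →
    ordN / (2 ^ (d.1 + i.1) * 3 ^ a.1 * 5 ^ b.1 * 11 ^ e.1) * (2 ^ d.1 - 1) ≤ restK →
    (ordN / (2 ^ (d.1 + i.1) * 3 ^ a.1 * 5 ^ b.1 * 11 ^ e.1), 2 ^ d.1 - 1, b.1) ∈ types := by
  decide +kernel

/-- The largest multiplicity of a type. -/
def bnd (t : Ty) (R K : ℕ) : ℕ := if t.2.1 == 0 then R / t.1 else min (R / t.1) (K / (t.2.1 * t.1))

/-- All multiplicity vectors with the given totals. -/
def solve : List Ty → ℕ → ℕ → ℕ → List (List ℕ)
  | [], R, K, _ => if R == 0 && K == 0 then [[]] else []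
  | t :: L, R, K, B => (List.range (bnd t R K + 1)).flatMap fun n =>
      if Nat.ble (n * t.2.2) B then (solve L (R - n * t.1) (K - n * (t.2.1 * t.1)) (B - n * t.2.2)).map (n :: ·)
      else []

theorem solve_sound : ∀ (L : List Ty) (R K B : ℕ) (c : Ty → ℕ), (∀ t ∈ L, 0 < t.1) →
    (L.map fun t => c t * t.1).sum = R → (L.map fun t => c t * (t.2.1 * t.1)).sum = K →
    (L.map fun t => c t * t.2.2).sum ≤ B → L.map c ∈ solve L R K B
  | [], R, K, B, c, _, hR, hK, _ => by
    simp only [List.map_nil, List.sum_nil] at hR hK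
    simp [solve, ← hR, ← hK]
  | t :: L, R, K, B, c, hpos, hR, hK, hB => by
    simp only [List.map_cons, List.sum_cons] at hR hK hB
    have hs : 0 < t.1 := hpos t (List.mem_cons_self ..)
    rw [List.map_cons, solve, List.mem_flatMap]
    refine ⟨c t, List.mem_range.2 (Nat.lt_succ_of_le ?_), ?_⟩
    · have h1 : c t ≤ R / t.1 := (Nat.le_div_iff_mul_le hs).2 (by omega)
      unfold bnd
      split_ifs with hk
      · exact h1
      · refine le_min h1 ((Nat.le_div_iff_mul_le (Nat.mul_pos (Nat.pos_of_ne_zero fun e => hk ?_) hs)).2 (by omega))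
        rw [e]; rfl
    · rw [if_pos (Nat.ble_eq_true_of_le (by omega)), List.mem_map]
      exact ⟨L.map c, solve_sound L _ _ _ c (fun u hu => hpos u (List.mem_cons_of_mem _ hu)) (by omega) (by omega)
        (by omega), rfl⟩

theorem types_facts : types.Nodup ∧ (∀ t ∈ types, 0 < t.1) := by decide +kernel

/-- The three types of the remaining suborbits. -/
def target : List Ty := [(54405120, 0, 0), (32643072, 1, 1), (3400320, 15, 0)]

theorem solve_types : solve types restR restK 1 = [types.map fun t => (↑target : Multiset Ty).count t] := by decide +kernel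

theorem target_sub : ∀ t ∈ target, t ∈ types := by decide

/-- A family of suborbit types with the right totals is the target. -/
theorem types_unique {α : Type*} (O : Finset α) (f : α → Ty) (hf : ∀ o ∈ O, f o ∈ types)
    (hR : ∑ o ∈ O, (f o).1 = restR) (hK : ∑ o ∈ O, (f o).2.1 * (f o).1 = restK) (hB : ∑ o ∈ O, (f o).2.2 ≤ 1) :
    O.val.map f = (↑target : Multiset Ty) := by
  obtain ⟨hnd, hpos⟩ := types_facts
  set c : Ty → ℕ := fun t => (O.filter fun o => f o = t).card with hc
  have key : ∀ g : Ty → ℕ, (types.map fun t => c t * g t).sum = ∑ o ∈ O, g (f o) := by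
    intro g
    rw [← List.sum_toFinset _ hnd, ← Finset.sum_fiberwise_of_maps_to (fun o ho => List.mem_toFinset.2 (hf o ho))]
    refine Finset.sum_congr rfl fun t _ => ?_
    rw [Finset.sum_congr rfl (g := fun _ => g t) fun o ho => by rw [(Finset.mem_filter.1 ho).2], Finset.sum_const,
      smul_eq_mul]
  have h := solve_sound types restR restK 1 c hpos ((key Prod.fst).trans hR)
    ((key fun t => t.2.1 * t.1).trans hK) (le_of_eq_of_le (key fun t => t.2.2) hB)
  rw [solve_types, List.mem_singleton, List.map_inj_left] at h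
  refine Multiset.ext.2 fun t => ?_
  rw [Multiset.count_map]
  by_cases ht : t ∈ types
  · have e := h t ht
    simp only [hc, eq_comm (b := t)] at e
    refine Eq.trans ?_ e
    rfl
  · rw [Multiset.count_eq_zero.2 fun hm => ht (target_sub t hm), Multiset.card_eq_zero,
      Multiset.filter_eq_nil]
    exact fun o ho e => ht (e ▸ hf o ho)

end CfsgLib.JankoFour.RankSeven
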