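import Cfsg.Agent.Lib.JankoFourOrder.RankSeven.Invol
import Cfsg.Agent.Lib.JankoFourOrder.DualCount
import Cfsg.Agent.Lib.JankoFour.DuadMembers

/-!
# The action on the cosets of `N(V)` (owner: helper14)

`Yq q` is the conjugate of `V` at the coset `q`; `Dq q` and `Mq q` fix `q` in `V` and in `N(V)`.

* `fixed_count`, `fixed_z`, `fixed_t`: 52349 and 8317 cosets are fixed by the two kinds of involutions.
* `sum_zD`, `sum_tD`: the two double counts over `V`.
-/

set_option autoImplicit false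
set_option linter.unusedSectionVars false
set_option maxRecDepth 100000

namespace CfsgLib.JankoFour

open Cfsg CfsgLib.ThreeTrans CfsgLib.JankoFourHexad CfsgLib.JankoFourOrder CfsgLib.JankoFour.RankSeven MulAction

variable {G : Type*} [Group G] [Finite G]

namespace HexBase

variable {S : Setting G} (B : HexBase S)

/-- The cosets of `N(V)`. -/
abbrev Om : Type _ := G ⧸ B.NV

/-- The coset `N(V)`. -/
def base : B.Om := QuotientGroup.mk 1

/-- The conjugate of `V` at a coset. -/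
noncomputable def Yq (q : B.Om) : Subgroup G := B.V.map (MulAut.conj (Quotient.out q)).toMonoidHom

/-- The part of `V` fixing a coset. -/
noncomputable def Dq (q : B.Om) : Subgroup G := B.V ⊓ stabilizer G q

/-- The part of `N(V)` fixing a coset. -/
noncomputable def Mq (q : B.Om) : Subgroup G := B.NV ⊓ stabilizer G q

theorem mem_stab_mk {x g : G} : x ∈ stabilizer G (QuotientGroup.mk g : B.Om) ↔ g⁻¹ * x * g ∈ B.NV := by
  rw [mem_stabilizer_iff, show x • (QuotientGroup.mk g : B.Om) = QuotientGroup.mk (x * g) from rfl, eq_comm,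
    QuotientGroup.eq, mul_assoc]

theorem smul_mk (x g : G) : x • (QuotientGroup.mk g : B.Om) = QuotientGroup.mk (x * g) := rfl

theorem mem_Y_mk {x g : G} : x ∈ B.Yq (QuotientGroup.mk g) ↔ g⁻¹ * x * g ∈ B.V := by
  obtain ⟨n, hn⟩ := QuotientGroup.mk_out_eq_mul B.NV g
  rw [Yq, hn, mem_map_conj,
    show (g * (n : G))⁻¹ * x * (g * n) = (n : G)⁻¹ * (g⁻¹ * x * g) * (n : G)⁻¹⁻¹ by group]
  exact ((Subgroup.mem_normalizer_iff.1 (inv_mem n.2) _)).symm

theorem mem_Y_smul {x a : G} {q : B.Om} : a * x * a⁻¹ ∈ B.Yq (a • q) ↔ x ∈ B.Yq q := by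
  obtain ⟨g, rfl⟩ := QuotientGroup.mk_surjective q
  rw [smul_mk, mem_Y_mk, mem_Y_mk, show (a * g)⁻¹ * (a * x * a⁻¹) * (a * g) = g⁻¹ * x * g by group]

theorem Y_le_stab (q : B.Om) : B.Yq q ≤ stabilizer G q := by
  obtain ⟨g, rfl⟩ := QuotientGroup.mk_surjective q
  exact fun x hx => B.mem_stab_mk.2 (Subgroup.le_normalizer (B.mem_Y_mk.1 hx))

theorem card_Y (q : B.Om) : Nat.card ↥(B.Yq q) = 2 ^ 11 := by
  rw [Yq, Subgroup.card_map_of_injective (MulAut.conj _).injective, B.card_V]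

theorem Y_elementary (q : B.Om) : IsElementaryAbelian 2 (B.Yq q) := elementary_map B.V_elementary _

theorem mem_normY {x : G} {q : B.Om} : x ∈ stabilizer G q ↔ x ∈ Subgroup.normalizer (B.Yq q : Set G) := by
  obtain ⟨g, rfl⟩ := QuotientGroup.mk_surjective q
  obtain ⟨n, hn⟩ := QuotientGroup.mk_out_eq_mul B.NV g
  rw [Yq, mem_normalizer_map_conj, hn, mem_stab_mk,
    show (g * (n : G))⁻¹ * x * (g * n) = (n : G)⁻¹ * (g⁻¹ * x * g) * n by group]
  exact ⟨fun h => mul_mem (mul_mem (inv_mem n.2) h) n.2, fun h => by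
    have := mul_mem (mul_mem n.2 h) (inv_mem n.2)
    rwa [show (n : G) * ((n : G)⁻¹ * (g⁻¹ * x * g) * n) * (n : G)⁻¹ = g⁻¹ * x * g by group] at this⟩

theorem NV_le_stab_base : B.NV ≤ stabilizer G B.base := fun x hx => B.mem_stab_mk.2 (by simpa using hx)

theorem eq_base_of_V_le (hJ : IsOfJankoFourType G) {q : B.Om} (h : B.V ≤ stabilizer G q) : q = B.base := by
  obtain ⟨g, rfl⟩ := QuotientGroup.mk_surjective q
  refine QuotientGroup.eq.2 (mul_mem ?_ (one_mem _))
  exact B.mem_of_map_le hJ fun v hv => by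
    rw [inv_inv]
    exact B.mem_stab_mk.1 (h hv)

theorem D_base : B.Dq B.base = B.V := inf_eq_left.2 fun _ hx => B.NV_le_stab_base (Subgroup.le_normalizer hx)

/-- The orbit and the stabiliser. -/
theorem orbit_card (M : B.NVModel) (q : B.Om) :
    (orbit ↥B.NV q).ncard * Nat.card ↥(B.Mq q) = ordN := by
  have h := Nat.card_congr (MulAction.orbitProdStabilizerEquivGroup ↥B.NV q)
  rw [Nat.card_prod, M.card_NV, Nat.card_coe_set_eq] at h
  rw [← h]
  congr 1
  exact (Nat.card_congr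
    { toFun := fun a => ⟨((a : ↥B.NV) : G), Subgroup.mem_inf.2 ⟨(a : ↥B.NV).2, a.2⟩⟩
      invFun := fun a => ⟨⟨a, (Subgroup.mem_inf.1 a.2).1⟩, (Subgroup.mem_inf.1 a.2).2⟩
      left_inv := fun _ => rfl
      right_inv := fun _ => rfl }).symm

/-- The number of elements of a class in `D`. -/
noncomputable def clD (x : G) (q : B.Om) : ℕ := Nat.card {v : ↥(B.Dq q) // IsConj x (v : G)}

theorem clD_smul (x : G) {a : G} (ha : a ∈ B.NV) (q : B.Om) : B.clD x (a • q) = B.clD x q := by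
  have key : ∀ {a : G}, a ∈ B.NV → ∀ q : B.Om, ∀ {v : G}, v ∈ B.Dq q → a * v * a⁻¹ ∈ B.Dq (a • q) := by
    intro a ha q v hv
    obtain ⟨hv1, hv2⟩ := Subgroup.mem_inf.1 hv
    refine Subgroup.mem_inf.2 ⟨B.conj_mem ha hv1, mem_stabilizer_iff.2 ?_⟩
    rw [mul_smul, mul_smul, inv_smul_smul, mem_stabilizer_iff.1 hv2]
  have hle : ∀ {a : G}, a ∈ B.NV → ∀ q : B.Om, B.clD x q ≤ B.clD x (a • q) := fun {a} ha q =>
    Nat.card_le_card_of_injective
      (fun v => (⟨⟨a * v.1.1 * a⁻¹, key ha q v.1.2⟩, v.2.trans (isConj_iff.2 ⟨a, rfl⟩)⟩ :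
        {w : ↥(B.Dq (a • q)) // IsConj x (w : G)}))
      fun v w h => Subtype.ext (Subtype.ext (mul_left_cancel (mul_right_cancel (congrArg (fun u => u.1.1) h))))
  refine le_antisymm ?_ (hle ha q)
  have := hle (inv_mem ha) (a • q)
  rwa [inv_smul_smul] at this

/-- The fixed cosets of an element, from its class in `N(V)`. -/
theorem fixed_count (x : G) :
    Nat.card {y : ↥B.NV // IsConj x (y : G)} * Nat.card ↥(Subgroup.centralizer ({x} : Set G)) =
      Nat.card {q : B.Om // x • q = q} * Nat.card ↥B.NV := by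
  classical
  let A := {g : G // g⁻¹ * x * g ∈ B.NV}
  have hy : ∀ y : {y : ↥B.NV // IsConj x (y : G)}, ∃ g : G, g⁻¹ * x * g = (y.1 : G) := fun y => by
    obtain ⟨c, hc⟩ := isConj_iff.1 y.2
    exact ⟨c⁻¹, by rw [inv_inv]; exact hc⟩
  choose c hc using hy
  let e1 : A ≃ {y : ↥B.NV // IsConj x (y : G)} × ↥(Subgroup.centralizer ({x} : Set G)) :=
    { toFun := fun g =>
        let y : {y : ↥B.NV // IsConj x (y : G)} := ⟨⟨_, g.2⟩, isConj_iff.2 ⟨g.1⁻¹, by rw [inv_inv]⟩⟩
        (y, ⟨g.1 * (c y)⁻¹, Subgroup.mem_centralizer_singleton_iff.2 (by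
          have h := hc y
          calc g.1 * (c y)⁻¹ * x = g.1 * ((c y)⁻¹ * x * c y) * (c y)⁻¹ := by group
            _ = g.1 * (g.1⁻¹ * x * g.1) * (c y)⁻¹ := by rw [h]
            _ = _ := by group)⟩)
      invFun := fun p => ⟨p.2.1 * c p.1, by
        have e : (p.2.1 * c p.1)⁻¹ * x * (p.2.1 * c p.1) = (p.1.1 : G) := by
          rw [← hc p.1, mul_inv_rev, show (c p.1)⁻¹ * p.2.1⁻¹ * x * (p.2.1 * c p.1) =
            (c p.1)⁻¹ * (p.2.1⁻¹ * (x * p.2.1)) * c p.1 by group,
            ← Subgroup.mem_centralizer_singleton_iff.1 p.2.2, inv_mul_cancel_left]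
        rw [e]; exact p.1.1.2⟩
      left_inv := fun g => Subtype.ext (by simp)
      right_inv := fun p => by
        have e : (p.2.1 * c p.1)⁻¹ * x * (p.2.1 * c p.1) = (p.1.1 : G) := by
          rw [← hc p.1, mul_inv_rev, show (c p.1)⁻¹ * p.2.1⁻¹ * x * (p.2.1 * c p.1) =
            (c p.1)⁻¹ * (p.2.1⁻¹ * (x * p.2.1)) * c p.1 by group,
            ← Subgroup.mem_centralizer_singleton_iff.1 p.2.2, inv_mul_cancel_left]
        refine Prod.ext (Subtype.ext (Subtype.ext e)) (Subtype.ext ?_)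
        dsimp only
        rw [mul_inv_eq_iff_eq_mul]
        congr 2
        exact Subtype.ext (Subtype.ext e.symm) }
  let e2 : A ≃ {q : B.Om // x • q = q} × ↥B.NV :=
    { toFun := fun g => (⟨QuotientGroup.mk g.1, mem_stabilizer_iff.1 (B.mem_stab_mk.2 g.2)⟩,
        ⟨(Quotient.out (QuotientGroup.mk g.1 : B.Om))⁻¹ * g.1,
          QuotientGroup.eq.1 (QuotientGroup.out_eq' _)⟩)
      invFun := fun p => ⟨Quotient.out p.1.1 * p.2.1, by
        have h := p.1.2
        have e : (QuotientGroup.mk (Quotient.out p.1.1 * p.2.1) : B.Om) = p.1.1 := by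
          conv_rhs => rw [← QuotientGroup.out_eq' p.1.1]
          exact QuotientGroup.eq.2 (by rw [mul_inv_rev, inv_mul_cancel_right]; exact inv_mem p.2.2)
        rw [← e] at h
        exact B.mem_stab_mk.1 (mem_stabilizer_iff.2 h)⟩
      left_inv := fun g => Subtype.ext (by simp)
      right_inv := fun p => by
        have e : (QuotientGroup.mk (Quotient.out p.1.1 * p.2.1) : B.Om) = p.1.1 := by
          conv_rhs => rw [← QuotientGroup.out_eq' p.1.1]
          exact QuotientGroup.eq.2 (by rw [mul_inv_rev, inv_mul_cancel_right]; exact inv_mem p.2.2)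
        exact Prod.ext (Subtype.ext e) (Subtype.ext (by simp only [e]; group)) }
  rw [← Nat.card_prod, ← Nat.card_prod, ← Nat.card_congr e1, ← Nat.card_congr e2]

theorem fixed_conj {x y : G} (h : IsConj x y) :
    Nat.card {q : B.Om // x • q = q} = Nat.card {q : B.Om // y • q = q} := by
  obtain ⟨g, rfl⟩ := isConj_iff.1 h
  exact Nat.card_congr ((MulAction.toPerm g).subtypeEquiv fun q => by
    show x • q = q ↔ (g * x * g⁻¹) • g • q = g • q
    rw [mul_smul, mul_smul, inv_smul_smul, smul_left_cancel_iff])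

variable [IsSimpleGroup G]

theorem fixed_z (hG : ¬ IsMulCommutative G) (hJ : IsOfJankoFourType G) :
    Nat.card {q : B.Om // S.z • q = q} = 52349 := by
  haveI : Nonempty (Frame S) := ⟨B.X.F⟩
  obtain ⟨M⟩ := B.exists_nvModel hG hJ
  have h := B.fixed_count S.z
  rw [B.card_zset_NV hG hJ, show Nat.card ↥(Subgroup.centralizer ({S.z} : Set G)) = _ from S.card_H_five,
    M.card_NV] at h
  simp only [ordN] at h
  omega

theorem fixed_t (hG : ¬ IsMulCommutative G) (hJ : IsOfJankoFourType G) :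
    Nat.card {q : B.Om // B.duadRep • q = q} = 8317 := by
  obtain ⟨M⟩ := B.exists_nvModel hG hJ
  have h := B.fixed_count B.duadRep
  rw [B.card_tset_NV hG hJ, show Nat.card ↥(Subgroup.centralizer ({B.duadRep} : Set G)) = _ from
    B.duad_centralizer_card hG hJ, M.card_NV] at h
  simp only [ordN] at h
  omega

/-- The double count of a class over `V`. -/
theorem sum_clD [Fintype B.Om] (x : G) :
    ∑ q : B.Om, B.clD x q = Nat.card {v : ↥B.V // IsConj x (v : G)} * Nat.card {q : B.Om // x • q = q} := by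
  classical
  haveI : Fintype {v : ↥B.V // IsConj x (v : G)} := Fintype.ofFinite _
  have e : Nat.card (Σ v : {v : ↥B.V // IsConj x (v : G)}, {q : B.Om // (v.1 : G) • q = q}) =
      Nat.card (Σ q : B.Om, {v : ↥(B.Dq q) // IsConj x (v : G)}) := Nat.card_congr
    { toFun := fun p => ⟨p.2.1, ⟨p.1.1.1, Subgroup.mem_inf.2 ⟨p.1.1.2, p.2.2⟩⟩, p.1.2⟩
      invFun := fun p => ⟨⟨⟨p.2.1.1, (Subgroup.mem_inf.1 p.2.1.2).1⟩, p.2.2⟩, p.1, (Subgroup.mem_inf.1 p.2.1.2).2⟩
      left_inv := fun _ => rfl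
      right_inv := fun _ => rfl }
  rw [Nat.card_sigma, Nat.card_sigma] at e
  refine e.symm.trans ?_
  rw [Finset.sum_congr rfl fun v _ => (B.fixed_conj v.2).symm, Finset.sum_const, Finset.card_univ, smul_eq_mul,
    ← Nat.card_eq_fintype_card]

theorem card_cl_V (hG : ¬ IsMulCommutative G) (hJ : IsOfJankoFourType G) :
    Nat.card {v : ↥B.V // IsConj S.z (v : G)} = 1771 ∧ Nat.card {v : ↥B.V // IsConj B.duadRep (v : G)} = 276 := by
  obtain ⟨M⟩ := B.exists_nvModel hG hJ
  obtain ⟨hz, ht⟩ := M.fibre_id hG hJ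
  have key : ∀ P : G → Prop, M.fib P 1 = Nat.card {v : ↥B.V // P (v : G)} := fun P => by
    refine Nat.card_congr (Equiv.ofBijective (fun n => ⟨⟨_, B.vel_mem n.1.2⟩, by
      simpa only [map_one, mul_one] using n.2⟩) ⟨fun a b h => ?_, fun v => ?_⟩)
    · exact Subtype.ext (Fin.ext (B.vel_inj a.1.2 b.1.2 (congrArg (fun u => ((u.1 : ↥B.V) : G)) h)))
    · obtain ⟨n, hn, e⟩ := v.1.2
      exact ⟨⟨⟨n, hn⟩, by rw [map_one, mul_one, e]; exact v.2⟩, Subtype.ext (Subtype.ext e)⟩
  exact ⟨(key _).symm.trans hz, (key _).symm.trans ht⟩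

theorem sum_zD [Fintype B.Om] (hG : ¬ IsMulCommutative G) (hJ : IsOfJankoFourType G) :
    ∑ q : B.Om, B.clD S.z q = 1771 * 52349 := by
  rw [B.sum_clD, (B.card_cl_V hG hJ).1, B.fixed_z hG hJ]

theorem sum_tD [Fintype B.Om] (hG : ¬ IsMulCommutative G) (hJ : IsOfJankoFourType G) :
    ∑ q : B.Om, B.clD B.duadRep q = 276 * 8317 := by
  rw [B.sum_clD, (B.card_cl_V hG hJ).2, B.fixed_t hG hJ]

theorem clD_base (hG : ¬ IsMulCommutative G) (hJ : IsOfJankoFourType G) :
    B.clD S.z B.base = 1771 ∧ B.clD B.duadRep B.base = 276 := by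
  rw [clD, clD, D_base]
  exact B.card_cl_V hG hJ

end HexBase

end CfsgLib.JankoFour
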