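import Cfsg.Agent.Lib.JankoFourOrder.RankSeven.FreeSet
import Cfsg.Agent.Lib.JankoFourLocals.Facts
import Cfsg.Agent.Lib.JankoFourSevenLocal.Main

/-!
# Fixed cosets of elements of order seven and twenty-three (owner: helper14)

* `fix_total`, `fix_orbit`: the fixed cosets of an element of prime order in `N(V)`;
* `not_seven_dvd`: no element of order seven fixes a free coset;
* `twentythree`: one free suborbit has stabilisers of order divisible by twenty-three, with trivial `D`.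
-/

set_option autoImplicit false
set_option linter.unusedSectionVars false
set_option maxRecDepth 100000

namespace CfsgLib.JankoFour

open Cfsg CfsgLib.ThreeTrans CfsgLib.JankoFourHexad CfsgLib.JankoFourOrder CfsgLib.JankoFour.RankSeven MulAction
open CfsgLib.JankoFourLocals (cj mem_cj norm' cent cent_le_norm card_norm comm_of_prime_card)

variable {G : Type*} [Group G] [Finite G]

namespace RankSeven

/-- The normalizer in a subgroup over the centralizer there. -/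
theorem card_inf_norm (K U : Subgroup G) {p : ℕ} (hp : p.Prime) (hU : Nat.card ↥U = p) :
    ∃ k, k ∣ p - 1 ∧ Nat.card ↥(K ⊓ norm' U) = Nat.card ↥(K ⊓ cent U) * k := by
  haveI := Fact.mk hp
  haveI : IsCyclic ↥U := isCyclic_of_prime_card hU
  let ψ : ↥(K ⊓ norm' U) →* MulAut ↥U := (Subgroup.normalizerMonoidHom U).comp (Subgroup.inclusion inf_le_right)
  have hiff : ∀ a : ↥(norm' U), Subgroup.normalizerMonoidHom U a = 1 ↔ (a : G) ∈ cent U := fun a => by
    rw [← MonoidHom.mem_ker, Subgroup.normalizerMonoidHom_ker, Subgroup.mem_subgroupOf]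
  have hk : Nat.card ψ.ker = Nat.card ↥(K ⊓ cent U) := Nat.card_congr
    { toFun := fun a => ⟨((a : ↥(K ⊓ norm' U)) : G), Subgroup.mem_inf.2
        ⟨(Subgroup.mem_inf.1 (a : ↥(K ⊓ norm' U)).2).1, (hiff _).1 a.2⟩⟩
      invFun := fun a => ⟨⟨a, Subgroup.mem_inf.2 ⟨(Subgroup.mem_inf.1 a.2).1,
        cent_le_norm U (Subgroup.mem_inf.1 a.2).2⟩⟩, (hiff _).2 (Subgroup.mem_inf.1 a.2).2⟩
      left_inv := fun _ => rfl
      right_inv := fun _ => rfl }
  refine ⟨Nat.card ψ.range, ?_, by rw [← hk, ← Subgroup.index_ker, Subgroup.card_mul_index]⟩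
  have h := Subgroup.card_subgroup_dvd_card ψ.range
  rwa [IsCyclic.card_mulAut, hU, Nat.totient_prime hp] at h

/-- The number of Sylow subgroups of prime order in a subgroup. -/
theorem sylow_count {K : Subgroup G} {p : ℕ} (hp : p.Prime) (hd : ¬ p * p ∣ Nat.card ↥K) {U : Subgroup G}
    (hU : Nat.card ↥U = p) (hUK : U ≤ K) :
    ∃ c, c % p = 1 ∧ Nat.card ↥K = Nat.card ↥(K ⊓ norm' U) * c := by
  haveI := Fact.mk hp
  have hf : (Nat.card ↥K).factorization p = 1 := by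
    have h1 : p ∣ Nat.card ↥K := hU ▸ Subgroup.card_dvd_of_le hUK
    have h2 := (hp.dvd_iff_one_le_factorization Nat.card_pos.ne').1 h1
    by_contra h3
    exact hd ((pow_two p) ▸ (hp.pow_dvd_iff_le_factorization Nat.card_pos.ne').2 (by omega))
  let T : Sylow p ↥K := Sylow.ofCard (U.subgroupOf K)
    (by rw [hf, pow_one, Nat.card_congr (Subgroup.subgroupOfEquivOfLe hUK).toEquiv, hU])
  have h := card_sylow_modEq_one p ↥K
  rw [T.card_eq_index_normalizer, show (T : Set ↥K) = ((U.subgroupOf K : Subgroup ↥K) : Set ↥K) from rfl, Nat.ModEq,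
    Nat.one_mod_eq_one.2 hp.one_lt.ne'] at h
  refine ⟨_, h, ?_⟩
  rw [← (Subgroup.normalizer ((U.subgroupOf K : Subgroup ↥K) : Set ↥K)).card_mul_index,
    ← Subgroup.subgroupOf_normalizer_eq hUK]
  congr 1
  rw [← Subgroup.inf_subgroupOf_right, inf_comm, Nat.card_congr (Subgroup.subgroupOfEquivOfLe inf_le_left).toEquiv]

end RankSeven

namespace HexBase

variable {S : Setting G} (B : HexBase S)

/-- Every element of prime order of `N(V)` fixing a coset has a conjugate of a given one fixing a translate. -/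
theorem exists_fixed_conj {p : ℕ} [hp : Fact p.Prime] (hd : ¬ p * p ∣ Nat.card ↥B.NV) {y : G} (hy : orderOf y = p)
    (hyN : y ∈ B.NV) {q : B.Om} (h : p ∣ Nat.card ↥(B.Mq q)) : ∃ n ∈ B.NV, y • n • q = n • q := by
  obtain ⟨x, hx⟩ := exists_prime_orderOf_dvd_card' p h
  obtain ⟨hxN, hxq⟩ := Subgroup.mem_inf.1 x.2
  obtain ⟨c, hc, e⟩ := CfsgLib.JankoFourLocals.conj_in hp.out hd (Subgroup.zpowers_le.2 hxN) (Subgroup.zpowers_le.2 hyN)
    (by rw [Nat.card_zpowers, Subgroup.orderOf_coe, hx]) (by rw [Nat.card_zpowers, hy])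
  have h1 : c⁻¹ * y * c ∈ stabilizer G q :=
    (Subgroup.zpowers_le.2 hxq) (mem_cj.1 (e.symm ▸ Subgroup.mem_zpowers y : y ∈ cj c (Subgroup.zpowers (x : G))))
  refine ⟨c, hc, ?_⟩
  have h2 := mem_stabilizer_iff.1 h1
  rw [mul_smul, mul_smul, inv_smul_eq_iff] at h2
  exact h2

/-- The fixed cosets and the two normalizers. -/
theorem fix_total {p : ℕ} [Fact p.Prime] (hd : ¬ p * p ∣ Nat.card G) {y : G} (hy : orderOf y = p)
    (hyN : y ∈ B.NV) :
    Nat.card {q : B.Om // y • q = q} * Nat.card ↥(B.NV ⊓ norm' (Subgroup.zpowers y)) =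
      Nat.card ↥(norm' (Subgroup.zpowers y)) := by
  have h := fixed_orbit (⊤ : Subgroup G) (p := p) B.base hy (Subgroup.mem_top _) (B.smul_base hyN)
    (by rwa [Subgroup.card_top])
  rw [top_inf_eq, B.stab_base, inf_comm] at h
  rw [← h]
  congr 1
  refine Nat.card_congr (Equiv.subtypeEquivRight fun r => ⟨fun hr => ⟨?_, hr⟩, fun hr => hr.2⟩)
  obtain ⟨g, rfl⟩ := QuotientGroup.mk_surjective r
  exact ⟨⟨g, Subgroup.mem_top _⟩, by show g • B.base = _; rw [base, smul_mk, mul_one]⟩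

/-- The fixed cosets on a suborbit and the two normalizers. -/
theorem fix_orbit {p : ℕ} [Fact p.Prime] (hd : ¬ p * p ∣ Nat.card ↥B.NV) {y : G} (hy : orderOf y = p)
    (hyN : y ∈ B.NV) {q : B.Om} (hyq : y • q = q) :
    Nat.card {r : B.Om // r ∈ orbit ↥B.NV q ∧ y • r = r} *
        Nat.card ↥(B.Mq q ⊓ norm' (Subgroup.zpowers y)) =
      Nat.card ↥(B.NV ⊓ norm' (Subgroup.zpowers y)) := by
  rw [show B.Mq q ⊓ norm' (Subgroup.zpowers y) = B.NV ⊓ norm' (Subgroup.zpowers y) ⊓ stabilizer G q from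
    inf_right_comm _ _ _]
  exact fixed_orbit B.NV (p := p) q hy hyN hyq hd

variable [IsSimpleGroup G] (hG : ¬ IsMulCommutative G) (hJ : IsOfJankoFourType G)
  (hord : Nat.card G = CfsgLib.JankoFourLocals.ord4)

include hG hJ hord in
/-- The fixed cosets by suborbit. -/
theorem fix_split {p : ℕ} [Fact p.Prime] {y : G} (hy : orderOf y = p) (hyN : y ∈ B.NV) :
    ∃ f1 f2 f3, Nat.card {q : B.Om // y • q = q} = 1 + f1 + f2 + f3 ∧ f1 % p = 15180 % p ∧ f2 % p = 28336 % p ∧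
      Nat.card {q : B.Om // B.Free q ∧ y • q = q} = f3 ∧ f3 % p = 173023872 % p ∧
      Nat.card {q : B.Om // y • q = q} % p = 173067389 % p := by
  classical
  haveI : Fintype B.Om := Fintype.ofFinite _
  have hy1 : y ^ p = 1 := hy ▸ pow_orderOf_eq_one y
  have hmod : ∀ P : B.Om → Prop, (∀ r, P r → P (y • r)) →
      Nat.card {q : B.Om // P q ∧ y • q = q} % p = Nat.card {q : B.Om // P q} % p :=
    fun P hP => (smul_fixed_modEq hy1 P hP).symm
  have hO : ∀ b, Nat.card {q : B.Om // q ∈ B.incOrbit b} = if b then 15180 else 28336 := fun b => by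
    rw [← B.incOrbit_card hG hJ b, ← Nat.card_coe_set_eq]
  refine ⟨Nat.card {q : B.Om // q ∈ B.incOrbit true ∧ y • q = q}, Nat.card {q : B.Om // q ∈ B.incOrbit false ∧ y • q = q},
    Nat.card {q : B.Om // B.Free q ∧ y • q = q}, ?_, ?_, ?_, rfl, ?_, ?_⟩
  · have hcount : ∀ P : B.Om → Prop, Nat.card {q : B.Om // P q} = ∑ q : B.Om, if P q then 1 else 0 := fun P => by
      rw [Nat.card_eq_fintype_card, Fintype.card_subtype, Finset.card_filter]
    have hval := fun b q => B.incOrbit_values hG hJ (b := b) (q := q)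
    have hone : Nat.card {q : B.Om // q = B.base} = 1 :=
      Nat.card_eq_one_iff_unique.2 ⟨⟨fun a b => Subtype.ext (a.2.trans b.2.symm)⟩, ⟨⟨B.base, rfl⟩⟩⟩
    rw [← hone, hcount, hcount, hcount, hcount, hcount,
      ← Finset.sum_add_distrib, ← Finset.sum_add_distrib, ← Finset.sum_add_distrib]
    refine Finset.sum_congr rfl fun q _ => ?_
    by_cases hb : q = B.base
    · rw [if_pos (hb ▸ B.smul_base hyN), if_pos hb, if_neg fun h => (hval _ _ h.1).2.2.2.2 hb,
        if_neg fun h => (hval _ _ h.1).2.2.2.2 hb, if_neg fun h => h.1.1 hb]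
    rw [if_neg hb, zero_add]
    by_cases hf : y • q = q
    · rw [if_pos hf]
      by_cases ht : q ∈ B.incOrbit true
      · rw [if_pos ⟨ht, hf⟩, if_neg fun h => absurd ((hval _ _ h.1).1.1 ((hval _ _ ht).1.2 rfl)) Bool.false_ne_true,
          if_neg fun h => h.1.2 _ ht]
      · by_cases hf' : q ∈ B.incOrbit false
        · rw [if_neg fun h => ht h.1, if_pos ⟨hf', hf⟩, if_neg fun h => h.1.2 _ hf']
        · rw [if_neg fun h => ht h.1, if_neg fun h => hf' h.1,
            if_pos ⟨⟨hb, fun b => by cases b <;> assumption⟩, hf⟩]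
    · rw [if_neg hf, if_neg fun h => hf h.2, if_neg fun h => hf h.2, if_neg fun h => hf h.2]
  · rw [hmod _ fun r h => B.smul_mem_incOrbit hyN h, hO]; rfl
  · rw [hmod _ fun r h => B.smul_mem_incOrbit hyN h, hO]; rfl
  · rw [hmod _ fun r h => B.free_smul hyN h, Nat.card_eq_fintype_card, Fintype.card_subtype,
      B.free_card hG hJ hord]
  · rw [← B.card_Om hG hJ hord]
    have h := (smul_fixed_modEq hy1 (fun _ : B.Om => True) fun _ _ => trivial).symm
    rw [Nat.ModEq] at h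
    rw [Nat.card_congr (Equiv.subtypeEquivRight fun r : B.Om => (iff_of_eq (true_and _)).symm :
      {r : B.Om // y • r = r} ≃ {r : B.Om // True ∧ y • r = r}), h,
      Nat.card_congr (Equiv.subtypeUnivEquiv fun _ : B.Om => trivial)]

include hG hJ in
theorem not_sq_dvd_NV {p : ℕ} (hp : p = 5 ∨ p = 7 ∨ p = 11 ∨ p = 23) : ¬ p * p ∣ Nat.card ↥B.NV := by
  rw [B.card_NV_ordN hG hJ]
  rcases hp with rfl | rfl | rfl | rfl <;> decide +kernel

include B hG hord in
theorem card_norm_seven (hz : IsOfJankoFourTypeAt S.z) {y : G} (hy : orderOf y = 7) :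
    Nat.card ↥(norm' (Subgroup.zpowers y)) = 2520 := by
  haveI : Nonempty (Frame S) := ⟨B.X.F⟩
  obtain ⟨x, hxC, hx⟩ := S.exists_order_in_C (q := 7) (Or.inr rfl)
  have h := Seven.normalizer_card S hx (Frame.commute_z hxC) hG hz
  obtain ⟨c, -, e⟩ := CfsgLib.JankoFourLocals.conj_in (q := 7) (by norm_num) (K := ⊤) (P := Subgroup.zpowers x) (P' := Subgroup.zpowers y)
    (by rw [Subgroup.card_top, hord]; decide +kernel) le_top le_top (by rw [Nat.card_zpowers, hx])
    (by rw [Nat.card_zpowers, hy])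
  rw [← e, show norm' (cj c (Subgroup.zpowers x)) = cj c (norm' (Subgroup.zpowers x)) from
    (Subgroup.map_equiv_normalizer_eq _ (MulAut.conj c)).symm, CfsgLib.JankoFourLocals.card_cj]
  exact h

include hG hJ hord in
/-- No element of order seven fixes a free coset. -/
theorem not_seven_dvd (hz : IsOfJankoFourTypeAt S.z) {q : B.Om} (hq : B.Free q) :
    ¬ 7 ∣ Nat.card ↥(B.Mq q) := by
  haveI : Fact (Nat.Prime 7) := ⟨by norm_num⟩
  haveI : Fact (Nat.Prime 2) := ⟨Nat.prime_two⟩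
  intro h7
  obtain ⟨⟨y, hyN⟩, hy⟩ := exists_prime_orderOf_dvd_card' (G := ↥B.NV) 7
    (by rw [B.card_NV_ordN hG hJ]; norm_num)
  rw [← Subgroup.orderOf_coe] at hy
  change orderOf y = 7 at hy
  obtain ⟨n, hn, hfix⟩ := B.exists_fixed_conj (B.not_sq_dvd_NV hG hJ (Or.inr (Or.inl rfl))) hy hyN h7
  have htot := B.fix_total (p := 7) (by rw [hord]; decide +kernel) hy hyN
  rw [B.card_norm_seven hG hord hz hy] at htot
  obtain ⟨f1, f2, f3, hsum, h1, h2, hf3, -, hall⟩ := B.fix_split hG hJ hord (p := 7) hy hyN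
  -- 28 divides the normalizer in `N(V)`
  set U := Subgroup.zpowers y
  have hU : Nat.card ↥U = 7 := by rw [Nat.card_zpowers, hy]
  have h28 : 28 ∣ Nat.card ↥(B.NV ⊓ norm' U) := by
    refine Nat.Coprime.mul_dvd_of_dvd_of_dvd (by norm_num : Nat.Coprime 4 7) ?_
      (hU ▸ Subgroup.card_dvd_of_le (le_inf (Subgroup.zpowers_le.2 hyN) Subgroup.le_normalizer))
    have hle : B.V ⊓ Subgroup.centralizer ({y} : Set G) ≤ B.NV ⊓ norm' U := by
      rw [← card_centralizer_zpowers]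
      exact inf_le_inf Subgroup.le_normalizer (cent_le_norm U)
    refine dvd_trans ?_ (Subgroup.card_dvd_of_le hle)
    have hc := CfsgLib.JankoFour.Eleven.card_inf_cent_modEq (hy ▸ pow_orderOf_eq_one y)
      (K := B.V) fun a ha => B.conj_mem hyN ha
    obtain ⟨k, hk11, hk⟩ := (Nat.dvd_prime_pow Nat.prime_two).1
      (B.card_V ▸ Subgroup.card_dvd_of_le (inf_le_left : B.V ⊓ Subgroup.centralizer ({y} : Set G) ≤ B.V))
    rw [hk, B.card_V, Nat.ModEq] at hc
    have key : ∀ k ≤ 11, 2 ^ 11 % 7 = 2 ^ k % 7 → 2 ≤ k := by decide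
    rw [hk, show (4 : ℕ) = 2 ^ 2 from rfl]
    exact pow_dvd_pow 2 (key k hk11 hc)
  obtain ⟨m, hm⟩ := h28
  rw [hm] at htot
  have hF90 : Nat.card {q : B.Om // y • q = q} ∈ Nat.divisors 90 := Nat.mem_divisors.2 ⟨⟨m, by
    have : Nat.card {q : B.Om // y • q = q} * m * 28 = 90 * 28 := by
      rw [mul_assoc, mul_comm m 28]
      exact htot
    omega⟩, by norm_num⟩
  have key : ∀ f ∈ Nat.divisors 90, f % 7 = 173067389 % 7 → f = 5 := by decide +kernel
  have hF := key _ hF90 hall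
  have hpos : 0 < f3 := by
    rw [← hf3]
    haveI : Nonempty {q : B.Om // B.Free q ∧ y • q = q} := ⟨⟨n • q, B.free_smul hn hq, hfix⟩⟩
    exact Nat.card_pos
  omega

include hG hJ hord in
/-- The free suborbit of an element of order twenty-three. -/
theorem twentythree : ∃ q6 : B.Om, B.Free q6 ∧
    (∀ q, B.Free q → 23 ∣ Nat.card ↥(B.Mq q) → q ∈ orbit ↥B.NV q6) ∧ Nat.card ↥(B.Dq q6) = 1 ∧
    ∃ c, c % 23 = 1 ∧ Nat.card ↥(B.Mq q6) = 253 * c := by
  haveI : Fact (Nat.Prime 23) := ⟨by norm_num⟩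
  obtain ⟨⟨y, hyN⟩, hy⟩ := exists_prime_orderOf_dvd_card' (G := ↥B.NV) 23
    (by rw [B.card_NV_ordN hG hJ]; norm_num)
  rw [← Subgroup.orderOf_coe] at hy
  change orderOf y = 23 at hy
  set U := Subgroup.zpowers y
  have hU : Nat.card ↥U = 23 := by rw [Nat.card_zpowers, hy]
  obtain ⟨hcU, haU⟩ := (CfsgLib.JankoFourLocals.facts hG hJ hord).twentythree' hU
  have htot := B.fix_total (p := 23) (by rw [hord]; decide +kernel) hy hyN
  rw [CfsgLib.JankoFourLocals.card_norm, hcU, haU] at htot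
  obtain ⟨f1, f2, f3, hsum, h1, h2, hf3, -, hall⟩ := B.fix_split hG hJ hord (p := 23) hy hyN
  obtain ⟨m, hm⟩ : 23 ∣ Nat.card ↥(B.NV ⊓ norm' U) :=
    hU ▸ Subgroup.card_dvd_of_le (le_inf (Subgroup.zpowers_le.2 hyN) Subgroup.le_normalizer)
  rw [hm] at htot
  have hF22 : Nat.card {q : B.Om // y • q = q} ∈ Nat.divisors 22 := Nat.mem_divisors.2 ⟨⟨m, by
    have : Nat.card {q : B.Om // y • q = q} * m * 23 = 22 * 23 := by
      rw [mul_assoc, mul_comm m 23]
      exact htot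
    omega⟩, by norm_num⟩
  have key : ∀ f ∈ Nat.divisors 22, f % 23 = 173067389 % 23 → f = 2 := by decide +kernel
  have hF := key _ hF22 hall
  rw [hF] at htot hsum
  have hf : f3 = 1 := by omega
  obtain ⟨⟨hsub, ⟨⟨q6, hq6, hfix⟩⟩⟩⟩ := (And.intro (Nat.card_eq_one_iff_unique.1 (hf3.trans hf)) True.intro)
  refine ⟨q6, hq6, fun q hq h => ?_, ?_, ?_⟩
  · obtain ⟨n, hn, hnq⟩ := B.exists_fixed_conj (B.not_sq_dvd_NV hG hJ (Or.inr (Or.inr (Or.inr rfl)))) hy hyN h
    have e : n • q = q6 := congrArg Subtype.val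
      (hsub.elim (⟨n • q, B.free_smul hn hq, hnq⟩ : {q : B.Om // B.Free q ∧ y • q = q}) ⟨q6, hq6, hfix⟩)
    exact ⟨⟨n⁻¹, inv_mem hn⟩, by show n⁻¹ • q6 = q; rw [← e, inv_smul_smul]⟩
  · have hyM : y ∈ B.Mq q6 := Subgroup.mem_inf.2 ⟨hyN, mem_stabilizer_iff.2 hfix⟩
    have hc := CfsgLib.JankoFour.Eleven.card_inf_cent_modEq (hy ▸ pow_orderOf_eq_one y)
      (K := B.Dq q6) fun a ha => B.conj_mem_Dq hyM ha
    rw [← card_centralizer_zpowers] at hc
    obtain ⟨d, hd11, hd⟩ := B.exists_card_Dq q6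
    have h1 : Nat.card ↥(B.Dq q6 ⊓ cent U) = 1 := Nat.eq_one_of_dvd_coprimes (by norm_num : Nat.Coprime (2 ^ 11) 23)
      (B.card_V ▸ Subgroup.card_dvd_of_le (inf_le_left.trans inf_le_left))
      (hcU ▸ Subgroup.card_dvd_of_le inf_le_right)
    have hlt := B.card_Dq_lt hJ hq6
    rw [hd] at hlt hc ⊢
    rw [h1] at hc
    have key : ∀ d ≤ 11, 2 ^ d < 2 ^ 11 → 2 ^ d % 23 = 1 % 23 → 2 ^ d = 1 := by decide
    exact key d hd11 hlt hc
  · obtain ⟨c, hc, e⟩ := sylow_count (K := B.Mq q6) (p := 23) (by norm_num)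
      (fun h => B.not_sq_dvd_NV hG hJ (Or.inr (Or.inr (Or.inr rfl))) (h.trans (Subgroup.card_dvd_of_le inf_le_left)))
      hU (Subgroup.zpowers_le.2 (Subgroup.mem_inf.2 ⟨hyN, mem_stabilizer_iff.2 hfix⟩))
    refine ⟨c, hc, ?_⟩
    have ho := B.fix_orbit (B.not_sq_dvd_NV hG hJ (Or.inr (Or.inr (Or.inr rfl)))) hy hyN hfix
    have h1 : Nat.card {r : B.Om // r ∈ orbit ↥B.NV q6 ∧ y • r = r} = 1 := by
      refine Nat.card_eq_one_iff_unique.2 ⟨⟨fun a b => Subtype.ext ?_⟩, ⟨⟨q6, mem_orbit_self _, hfix⟩⟩⟩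
      have hfree : ∀ r : B.Om, r ∈ orbit ↥B.NV q6 → B.Free r := fun r ⟨⟨n, hn⟩, e⟩ => e ▸ B.free_smul hn hq6
      have h : (⟨a.1, hfree _ a.2.1, a.2.2⟩ : {q : B.Om // B.Free q ∧ y • q = q}) = ⟨b.1, hfree _ b.2.1, b.2.2⟩ :=
        hsub.elim _ _
      exact (congrArg (fun u => u.1) h :)
    rw [h1, one_mul, hm] at ho
    rw [e, ho]
    congr 1
    omega

end HexBase

end CfsgLib.JankoFour
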