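import Cfsg.Agent.Lib.JankoFourOrder.RankSeven.FixedCounts
import Cfsg.Agent.Lib.JankoFourFive.Main
import Cfsg.Agent.Lib.JankoFourTwo.OrderThree

/-!
# Fixed cosets of an element of order five (owner: helper14)

* `five`: a free coset whose stabiliser is divisible by five has `|D| ≡ 2 (mod 5)`, and there is at most one
  such suborbit.
-/

set_option autoImplicit false
set_option linter.unusedSectionVars false
set_option maxRecDepth 100000

namespace CfsgLib.JankoFour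

open Cfsg CfsgLib.ThreeTrans CfsgLib.JankoFourHexad CfsgLib.JankoFourOrder CfsgLib.JankoFour.RankSeven MulAction
open CfsgLib.JankoFourLocals (cj mem_cj norm' cent cent_le_norm)

variable {G : Type*} [Group G] [Finite G]

/-- In `C` the only involution commuting with an element of order five is `z`. -/
theorem Setting.involution_five_C (S : Setting G) {x u : G} (hx : orderOf x = 5) (hxC : x ∈ S.C) (huC : u ∈ S.C)
    (hu : u * u = 1) (hu1 : u ≠ 1) (hux : Commute u x) : u = S.z := by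
  obtain ⟨n, r, hr, e, he, heq⟩ := S.cent0_decomp (Or.inl rfl) hx hxC (S.C_le_H0 huC) hux
  obtain ⟨heE, hex⟩ := S.mem_fixX.1 he
  have hPcomm : ∀ p ∈ S.P, Commute r p := fun p hp => by
    have hP3 : Nat.card ↥S.P = 3 := S.hPc
    exact CfsgLib.JankoFourLocals.commute_of_mem_cent
      (CfsgLib.JankoFourLocals.comm_of_prime_card Nat.prime_three hP3 hr) hp
  have heC : ∀ p ∈ S.P, Commute e p := fun p hp => by
    have h1 : Commute u p := (S.mem_C.1 huC).2 p hp
    have h2 : Commute (x ^ n * r) p := (((S.mem_C.1 hxC).2 p hp).pow_left n).mul_left (hPcomm p hp)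
    have := h2.inv_left.mul_left h1
    rwa [heq, show (x ^ n * r)⁻¹ * (x ^ n * (r * e)) = e by group] at this
  have hez : e = 1 ∨ e = S.z := S.hE.eq_or (by
    rw [← S.hCP]
    exact ⟨heE, Subgroup.mem_centralizer_iff.2 fun p hp => (heC p hp).eq.symm⟩)
  have hcr : Commute (x ^ n) r := ((S.mem_C.1 hxC).2 r hr).pow_left n
  have hce : Commute (x ^ n * r) e :=
    (hex.symm.pow_left n).mul_left (heC r hr).symm
  have hee : e * e = 1 := by rcases hez with e' | e' <;> rw [e'] <;> simp [S.hE.mul_self_z]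
  have h0 : (x ^ n * r) ^ 2 = 1 := by
    have h : u ^ 2 = 1 := by rw [pow_two, hu]
    rwa [heq, ← mul_assoc, hce.mul_pow, pow_two e, hee, mul_one] at h
  have h15 : (x ^ n * r) ^ 15 = 1 := by
    rw [hcr.mul_pow, ← pow_mul, show n * 15 = 5 * (n * 3) by ring, pow_mul, ← hx, pow_orderOf_eq_one, one_pow,
      one_mul, show (15 : ℕ) = 3 * 5 from rfl, pow_mul, S.P_pow_three hr, one_pow]
  have h1 : x ^ n * r = 1 := by
    rw [show (15 : ℕ) = 2 * 7 + 1 from rfl, pow_succ, pow_mul, h0, one_pow, one_mul] at h15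
    exact h15
  rw [← mul_assoc, h1, one_mul] at heq
  exact (hez.resolve_left fun e' => hu1 (heq.trans e')) ▸ heq

namespace HexBase

variable {S : Setting G} (B : HexBase S) [IsSimpleGroup G] (hG : ¬ IsMulCommutative G) (hJ : IsOfJankoFourType G)
  (hord : Nat.card G = CfsgLib.JankoFourLocals.ord4)

variable {x : G} (D : B.FiveData x) {q : B.Om}

include D in
/-- The unique conjugate of `z` fixed in the conjugate of `V` at a coset fixed by `x`. -/
theorem unique_z_at (hd : ¬ 5 * 5 ∣ Nat.card ↥B.NV) (hxq : x • q = q) :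
    ∃ w ∈ B.Yq q, Commute w x ∧ IsConj S.z w ∧ ∀ u ∈ B.Yq q, Commute u x → IsConj S.z u → u = w := by
  obtain ⟨g, rfl⟩ := QuotientGroup.mk_surjective q
  have hy : g⁻¹ * x * g ∈ B.NV := B.mem_stab_mk.1 (mem_stabilizer_iff.2 hxq)
  have hyo : orderOf (g⁻¹ * x * g) = 5 := by
    rw [show g⁻¹ * x * g = MulAut.conj g⁻¹ x by simp, MulEquiv.orderOf_eq, D.hx]
  obtain ⟨c, hc, e⟩ := CfsgLib.JankoFourLocals.conj_in (by norm_num : Nat.Prime 5) hd
    (Subgroup.zpowers_le.2 D.hxN) (Subgroup.zpowers_le.2 hy) (by rw [Nat.card_zpowers, D.hx])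
    (by rw [Nat.card_zpowers, hyo])
  set k := g * c with hk
  have h1 : k⁻¹ * x * k ∈ Subgroup.zpowers x := by
    have := mem_cj.1 (e.symm ▸ Subgroup.mem_zpowers (g⁻¹ * x * g) : g⁻¹ * x * g ∈ cj c (Subgroup.zpowers x))
    rwa [show k⁻¹ * x * k = c⁻¹ * (g⁻¹ * x * g) * c by rw [hk]; group]
  have h2 : k * x * k⁻¹ ∈ Subgroup.zpowers x := by
    have h : c * x * c⁻¹ ∈ Subgroup.zpowers (g⁻¹ * x * g) := e ▸ ⟨x, Subgroup.mem_zpowers x, rfl⟩
    obtain ⟨i, hi⟩ := Subgroup.mem_zpowers_iff.1 h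
    refine Subgroup.mem_zpowers_iff.2 ⟨i, ?_⟩
    have h3 : (g⁻¹ * x * g⁻¹⁻¹) ^ i = g⁻¹ * x ^ i * g⁻¹⁻¹ := conj_zpow
    rw [inv_inv, hi] at h3
    rw [hk, show g * c * x * (g * c)⁻¹ = g * (c * x * c⁻¹) * g⁻¹ by group, h3]
    group
  have hY : ∀ {u}, u ∈ B.Yq (QuotientGroup.mk g) ↔ k⁻¹ * u * k ∈ B.V := fun {u} => by
    rw [B.mem_Y_mk, show k⁻¹ * u * k = c⁻¹ * (g⁻¹ * u * g) * c⁻¹⁻¹ by rw [hk]; group]
    exact Subgroup.mem_normalizer_iff.1 (inv_mem hc) _
  refine ⟨k * S.z * k⁻¹, hY.2 (by rw [show k⁻¹ * (k * S.z * k⁻¹) * k = S.z by group]; exact B.z_mem_V), ?_,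
    isConj_iff.2 ⟨k, rfl⟩, fun u hu hux huz => ?_⟩
  · obtain ⟨i, hi⟩ := Subgroup.mem_zpowers_iff.1 h1
    have := (LargeData.commute_conj_iff' (g := k)).2 (hi ▸ D.zx.zpow_right i : Commute S.z (k⁻¹ * x * k))
    rwa [show k * (k⁻¹ * x * k) * k⁻¹ = x by group] at this
  · obtain ⟨i, hi⟩ := Subgroup.mem_zpowers_iff.1 h2
    have h3 := (LargeData.commute_conj_iff' (g := k⁻¹)).2 (hi ▸ hux.zpow_right i : Commute u (k * x * k⁻¹))
    rw [inv_inv, show k⁻¹ * (k * x * k⁻¹) * k = x by group] at h3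
    have := D.z_only (B.mem_fixV.2 ⟨hY.1 hu, h3⟩) (huz.trans (isConj_iff.2 ⟨k⁻¹, by rw [inv_inv]⟩))
    rw [← this]; group

include D hG hJ in
/-- No element of order three commutes with `x` in the stabiliser of a free coset fixed by `x`. -/
theorem no_three (hq : B.Free q) (hxq : x • q = q) : ¬ 3 ∣ Nat.card ↥(B.Mq q ⊓ cent (Subgroup.zpowers x)) := by
  haveI : Fact (Nat.Prime 3) := ⟨Nat.prime_three⟩
  intro h3
  obtain ⟨⟨g, hg⟩, hgo⟩ := exists_prime_orderOf_dvd_card' 3 h3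
  rw [← Subgroup.orderOf_coe] at hgo
  change orderOf g = 3 at hgo
  obtain ⟨hgM, hgU⟩ := Subgroup.mem_inf.1 hg
  obtain ⟨hgN, hgq⟩ := Subgroup.mem_inf.1 hgM
  have hgx : Commute g x := CfsgLib.JankoFourLocals.commute_of_mem_cent hgU (Subgroup.mem_zpowers x)
  -- the two fixed conjugates of `z` commute with `g`
  have hgz : g * S.z * g⁻¹ = S.z := D.z_only
    (B.mem_fixV.2 ⟨B.conj_mem hgN B.z_mem_V, conj_comm_of (conj_eq_self hgx) D.zx⟩) (isConj_iff.2 ⟨g, rfl⟩)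
  obtain ⟨w, hwY, hwx, hwz, huniq⟩ := B.unique_z_at D (B.not_sq_dvd_NV hG hJ (Or.inl rfl)) hxq
  have hgw : g * w * g⁻¹ = w := huniq _ ((Subgroup.mem_normalizer_iff.1 (B.mem_normY.1 hgq) w).1 hwY)
    (conj_comm_of (conj_eq_self hgx) hwx) (hwz.trans (isConj_iff.2 ⟨g, rfl⟩))
  -- inside the conjugate of `C` containing the centraliser of `g`
  obtain ⟨h, hh⟩ := isConj_iff.1 (janko_four_one_class_three hG hJ g B.X.F.p hgo B.X.F.hp3)
  have hC : ∀ {u : G}, Commute u g → h * u * h⁻¹ ∈ S.C := fun {u} hu =>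
    B.X.F.centralizer_le hG (B.X.F.mem_cent_p.2 (hh ▸ (LargeData.commute_conj_iff' (g := h)).2 hu))
  have hx5 : orderOf (h * x * h⁻¹) = 5 := by rw [← MulAut.conj_apply, MulEquiv.orderOf_eq, D.hx]
  have key : ∀ {u : G}, IsConj S.z u → Commute u x → g * u * g⁻¹ = u → h * u * h⁻¹ = S.z := fun {u} hu hux hgu => by
    have hu2 : u * u = 1 := by
      obtain ⟨a, rfl⟩ := isConj_iff.1 hu
      rw [conj_mul, S.hE.mul_self_z]; group
    have hu1 : u ≠ 1 := fun e => S.hE.z_ne_one (by rwa [e, isConj_one_left] at hu)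
    refine S.involution_five_C hx5 (hC hgx.symm) (hC (mul_inv_eq_iff_eq_mul.1 hgu).symm) ?_
      (fun e => hu1 (conj_eq_one_iff.1 e)) ((LargeData.commute_conj_iff' (g := h)).2 hux)
    rw [conj_mul, hu2]; group
  have hzw : S.z = w := by
    have e := (key (IsConj.refl _) D.zx hgz).trans (key hwz hwx hgw).symm
    exact mul_left_cancel (mul_right_cancel e)
  exact S.hE.z_ne_one (B.free_meet hG hJ hq B.z_mem_V (hzw ▸ hwY))

include D in
theorem cent_NV_card : Nat.card ↥(B.NV ⊓ cent (Subgroup.zpowers x)) = 480 := by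
  rw [← D.cent0_card, card_centralizer_zpowers]
  refine congrArg (fun K : Subgroup G => Nat.card ↥K) (le_antisymm (fun g hg => ?_) fun g hg => ?_)
  · exact D.cent_NV' (Subgroup.mem_inf.1 hg).1 (mem_centralizer_singleton_iff'.1 (Subgroup.mem_inf.1 hg).2)
  · exact Subgroup.mem_inf.2 ⟨D.cent0_le_NV hg, mem_centralizer_singleton_iff'.2 (S.mem_cent0.1 hg).2⟩

include D hG hJ in
/-- The stabiliser of a free coset fixed by `x` meets the normalizer of `⟨x⟩` in at most 160 elements. -/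
theorem five_bound (hq : B.Free q) (hxq : x • q = q) :
    (Nat.card ↥(B.Mq q ⊓ norm' (Subgroup.zpowers x)) ≤ 80 ∨
      Nat.card ↥(B.Dq q ⊓ cent (Subgroup.zpowers x)) = 2) ∧
      Nat.card ↥(B.Mq q ⊓ norm' (Subgroup.zpowers x)) ≤ 160 := by
  obtain ⟨Φ, -, hker, -⟩ := B.exists_phi hG hJ
  set U := Subgroup.zpowers x
  let φ : ↥(B.NV ⊓ cent U) →* ↥M24 := Φ.comp (Subgroup.inclusion inf_le_left)
  have hφk : Nat.card φ.ker = 8 := by
    rw [← B.card_fixV D.hx D.hxC D.hxN]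
    exact Nat.card_congr
      { toFun := fun a => ⟨((a : ↥(B.NV ⊓ cent U)) : G), B.mem_fixV.2 ⟨(hker _).1 a.2,
          CfsgLib.JankoFourLocals.commute_of_mem_cent (Subgroup.mem_inf.1 (a : ↥(B.NV ⊓ cent U)).2).2
            (Subgroup.mem_zpowers x)⟩⟩
        invFun := fun a => ⟨⟨a, Subgroup.mem_inf.2 ⟨Subgroup.le_normalizer (B.mem_fixV.1 a.2).1, by
            rw [card_centralizer_zpowers]; exact mem_centralizer_singleton_iff'.2 (B.mem_fixV.1 a.2).2⟩⟩,
          (hker _).2 (B.mem_fixV.1 a.2).1⟩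
        left_inv := fun _ => rfl
        right_inv := fun _ => rfl }
  have hφr : Nat.card φ.range = 60 := by
    have h := φ.ker.card_mul_index
    rw [Subgroup.index_ker, hφk, B.cent_NV_card D] at h
    omega
  have hle : B.Mq q ⊓ cent U ≤ B.NV ⊓ cent U := inf_le_inf_right _ inf_le_left
  let φ' : ↥(B.Mq q ⊓ cent U) →* ↥M24 := φ.comp (Subgroup.inclusion hle)
  have hk' : Nat.card φ'.ker = Nat.card ↥(B.Dq q ⊓ cent U) := Nat.card_congr
    { toFun := fun a => ⟨((a : ↥(B.Mq q ⊓ cent U)) : G), Subgroup.mem_inf.2 ⟨Subgroup.mem_inf.2 ⟨(hker _).1 a.2,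
        (Subgroup.mem_inf.1 (Subgroup.mem_inf.1 (a : ↥(B.Mq q ⊓ cent U)).2).1).2⟩,
          (Subgroup.mem_inf.1 (a : ↥(B.Mq q ⊓ cent U)).2).2⟩⟩
      invFun := fun a => ⟨⟨a, Subgroup.mem_inf.2 ⟨Subgroup.mem_inf.2 ⟨Subgroup.le_normalizer
          (Subgroup.mem_inf.1 (Subgroup.mem_inf.1 a.2).1).1, (Subgroup.mem_inf.1 (Subgroup.mem_inf.1 a.2).1).2⟩,
          (Subgroup.mem_inf.1 a.2).2⟩⟩, (hker _).2 (Subgroup.mem_inf.1 (Subgroup.mem_inf.1 a.2).1).1⟩
      left_inv := fun _ => rfl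
      right_inv := fun _ => rfl }
  have hr' : Nat.card φ'.range ∣ 20 := by
    have h60 : Nat.card φ'.range ∣ 60 := hφr ▸ Subgroup.card_dvd_of_le (by rintro _ ⟨a, rfl⟩; exact ⟨_, rfl⟩)
    have h3 : ¬ 3 ∣ Nat.card φ'.range := fun h =>
      B.no_three hG hJ D hq hxq (h.trans (Subgroup.card_range_dvd φ'))
    exact ((Nat.prime_three.coprime_iff_not_dvd.2 h3).symm).dvd_of_dvd_mul_right (show _ ∣ 20 * 3 from h60)
  have hc : Nat.card ↥(B.Dq q ⊓ cent U) ∣ 2 := by
    rw [← S.orderOf_z, ← Nat.card_zpowers]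
    refine Subgroup.card_dvd_of_le fun v hv => ?_
    by_cases h1 : v = 1
    · rw [h1]; exact one_mem _
    obtain ⟨hvD, hvU⟩ := Subgroup.mem_inf.1 hv
    rw [D.z_only (B.mem_fixV.2 ⟨(Subgroup.mem_inf.1 hvD).1,
      CfsgLib.JankoFourLocals.commute_of_mem_cent hvU (Subgroup.mem_zpowers x)⟩) (B.free_conj_z hG hJ hq hvD h1)]
    exact Subgroup.mem_zpowers _
  have hcard := φ'.ker.card_mul_index
  rw [Subgroup.index_ker, hk'] at hcard
  obtain ⟨k, hk, hm⟩ := RankSeven.card_inf_norm (B.Mq q) U (by norm_num : Nat.Prime 5)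
    (by rw [Nat.card_zpowers, D.hx])
  rw [← hcard] at hm
  have hk4 := Nat.le_of_dvd (by norm_num) hk
  have hr20 := Nat.le_of_dvd (by norm_num) hr'
  rw [hm]
  rcases (Nat.dvd_prime Nat.prime_two).1 hc with e | e <;> rw [e]
  · have := Nat.mul_le_mul hr20 hk4
    rw [one_mul]
    exact ⟨Or.inl (by omega), by omega⟩
  · have := Nat.mul_le_mul hr20 hk4
    exact ⟨Or.inr rfl, by rw [mul_assoc]; omega⟩

include D hG hJ hord in
/-- At most twelve free cosets are fixed by `x`. -/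
theorem five_count_NV (hz : IsOfJankoFourTypeAt S.z) :
    Nat.card ↥(B.NV ⊓ norm' (Subgroup.zpowers x)) = 1920 ∧
      Nat.card {r : B.Om // B.Free r ∧ x • r = r} ≤ 12 := by
  haveI : Fact (Nat.Prime 5) := ⟨by norm_num⟩
  set U := Subgroup.zpowers x
  have hU : Nat.card ↥U = 5 := by rw [Nat.card_zpowers, D.hx]
  obtain ⟨-, -, -, hN⟩ := order_five_local hG hz hU
    (Subgroup.zpowers_le.2 (mem_centralizer_singleton_iff'.2 D.comm_xz.eq))
  have htot := B.fix_total (p := 5) (by rw [hord]; decide +kernel) D.hx D.hxN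
  obtain ⟨k, hk, hm⟩ := RankSeven.card_inf_norm B.NV U (by norm_num : Nat.Prime 5) hU
  rw [B.cent_NV_card D] at hm
  rw [show Nat.card ↥(norm' U) = 2 ^ 8 * 3 * 5 * 7 from hN, hm] at htot
  obtain ⟨f1, f2, f3, hsum, h1, h2, hf3, -, hall⟩ := B.fix_split hG hJ hord (p := 5) D.hx D.hxN
  have key : ∀ k ∈ Nat.divisors 4, ∀ f < 57, f * k = 56 → f % 5 = 173067389 % 5 → f = 14 ∧ k = 4 := by
    decide +kernel
  have hfk : Nat.card {q : B.Om // x • q = q} * k = 56 := by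
    have : Nat.card {q : B.Om // x • q = q} * k * 480 = 56 * 480 := by
      rw [mul_assoc, mul_comm k 480]
      exact htot
    omega
  obtain ⟨hF, rfl⟩ := key k (Nat.mem_divisors.2 ⟨hk, by norm_num⟩) _
    (Nat.lt_succ_of_le (hfk ▸ Nat.le_mul_of_pos_right _ (Nat.pos_of_ne_zero fun e => by rw [e, mul_zero] at hfk; omega)))
    hfk hall
  exact ⟨hm, by omega⟩

include D hG hJ hord in
/-- A free coset fixed by `x`: at least twelve fixed cosets in its suborbit, and `|D| ≡ 2 (mod 5)`. -/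
theorem five_orbit (hz : IsOfJankoFourTypeAt S.z) (hq : B.Free q) (hxq : x • q = q) :
    12 ≤ Nat.card {r : B.Om // r ∈ orbit ↥B.NV q ∧ x • r = r} ∧ Nat.card ↥(B.Dq q) % 5 = 2 := by
  haveI : Fact (Nat.Prime 5) := ⟨by norm_num⟩
  obtain ⟨hA, hfree⟩ := B.five_count_NV hG hJ hord D hz
  have ho := B.fix_orbit (p := 5) (B.not_sq_dvd_NV hG hJ (Or.inl rfl)) D.hx D.hxN hxq
  rw [hA] at ho
  obtain ⟨h1, h2⟩ := B.five_bound hG hJ D hq hxq
  set w := Nat.card {r : B.Om // r ∈ orbit ↥B.NV q ∧ x • r = r}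
  set m := Nat.card ↥(B.Mq q ⊓ norm' (Subgroup.zpowers x))
  have hw12 : 12 ≤ w := by
    by_contra hlt
    have := Nat.mul_le_mul (Nat.le_of_lt_succ (not_le.1 hlt)) h2
    omega
  refine ⟨hw12, ?_⟩
  have hwle : w ≤ 12 := by
    refine le_trans ?_ hfree
    have hmem : ∀ r : B.Om, r ∈ orbit ↥B.NV q → B.Free r := fun r ⟨⟨n, hn⟩, e⟩ => e ▸ B.free_smul hn hq
    exact Nat.card_le_card_of_injective
      (fun r : {r : B.Om // r ∈ orbit ↥B.NV q ∧ x • r = r} =>
        (⟨r.1, hmem r.1 r.2.1, r.2.2⟩ : {r : B.Om // B.Free r ∧ x • r = r}))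
      fun a b e => Subtype.ext (congrArg (fun u => u.1) e :)
  have hc : Nat.card ↥(B.Dq q ⊓ cent (Subgroup.zpowers x)) = 2 := h1.resolve_left fun hle => by
    have := Nat.mul_le_mul hwle hle
    omega
  have hmod := CfsgLib.JankoFour.Eleven.card_inf_cent_modEq (D.hx ▸ pow_orderOf_eq_one x) (K := B.Dq q)
    fun a ha => B.conj_mem_Dq (Subgroup.mem_inf.2 ⟨D.hxN, mem_stabilizer_iff.2 hxq⟩) ha
  rw [← card_centralizer_zpowers, hc] at hmod
  exact hmod

end HexBase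

namespace HexBase

variable {S : Setting G} (B : HexBase S) [IsSimpleGroup G]

/-- The free cosets with five in the stabiliser. -/
theorem five (hG : ¬ IsMulCommutative G) (hJ : IsOfJankoFourType G)
    (hord : Nat.card G = CfsgLib.JankoFourLocals.ord4) (hz : IsOfJankoFourTypeAt S.z) :
    (∀ q, B.Free q → 5 ∣ Nat.card ↥(B.Mq q) → Nat.card ↥(B.Dq q) % 5 = 2) ∧
    (∀ q q', B.Free q → B.Free q' → 5 ∣ Nat.card ↥(B.Mq q) → 5 ∣ Nat.card ↥(B.Mq q') → q' ∈ orbit ↥B.NV q) := by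
  haveI : Fact (Nat.Prime 5) := ⟨by norm_num⟩
  obtain ⟨x, hxC, hx, hxN⟩ := B.exists_in_C_norm (q := 5) rfl
  have D : B.FiveData x := ⟨hx, hxC, hxN, hJ, inferInstance, hG,
    fun t ht ht1 htz => B.centralizer_duad_le hG hJ ht ht1 htz⟩
  have move : ∀ q, B.Free q → 5 ∣ Nat.card ↥(B.Mq q) → ∃ n ∈ B.NV, x • n • q = n • q := fun q _ h =>
    B.exists_fixed_conj (B.not_sq_dvd_NV hG hJ (Or.inl rfl)) hx hxN h
  constructor
  · intro q hq h
    obtain ⟨n, hn, hfix⟩ := move q hq h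
    have h2 := (B.five_orbit hG hJ hord D hz (B.free_smul hn hq) hfix).2
    have e : Nat.card ↥(B.Dq (n • q)) = Nat.card ↥(B.Dq q) := by
      have hle : ∀ {a : G}, a ∈ B.NV → ∀ r : B.Om, Nat.card ↥(B.Dq r) ≤ Nat.card ↥(B.Dq (a • r)) := fun {a} ha r =>
        Nat.card_le_card_of_injective (fun v => (⟨a * v.1 * a⁻¹, Subgroup.mem_inf.2
            ⟨B.conj_mem ha (Subgroup.mem_inf.1 v.2).1, mem_stabilizer_iff.2 (by
              rw [mul_smul, mul_smul, inv_smul_smul, mem_stabilizer_iff.1 (Subgroup.mem_inf.1 v.2).2])⟩⟩ :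
            ↥(B.Dq (a • r))))
          fun u v h => Subtype.ext (mul_left_cancel (mul_right_cancel (congrArg (fun w : ↥(B.Dq (a • r)) => (w : G)) h)))
      refine le_antisymm ?_ (hle hn q)
      have := hle (inv_mem hn) (n • q)
      rwa [inv_smul_smul] at this
    rwa [e] at h2
  · intro q q' hq hq' h h'
    obtain ⟨n, hn, hfix⟩ := move q hq h
    obtain ⟨n', hn', hfix'⟩ := move q' hq' h'
    obtain ⟨-, hfree⟩ := B.five_count_NV hG hJ hord D hz
    have h12 := (B.five_orbit hG hJ hord D hz (B.free_smul hn hq) hfix).1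
    have h12' := (B.five_orbit hG hJ hord D hz (B.free_smul hn' hq') hfix').1
    by_contra hne
    have hmem : ∀ r p : B.Om, B.Free p → r ∈ orbit ↥B.NV p → B.Free r := fun r p hp ⟨⟨a, ha⟩, e⟩ =>
      e ▸ B.free_smul ha hp
    have hle := Nat.card_le_card_of_injective (Sum.elim
      (fun r : {r : B.Om // r ∈ orbit ↥B.NV (n • q) ∧ x • r = r} =>
        (⟨r.1, hmem _ _ (B.free_smul hn hq) r.2.1, r.2.2⟩ : {r : B.Om // B.Free r ∧ x • r = r}))
      (fun r : {r : B.Om // r ∈ orbit ↥B.NV (n' • q') ∧ x • r = r} =>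
        (⟨r.1, hmem _ _ (B.free_smul hn' hq') r.2.1, r.2.2⟩ : {r : B.Om // B.Free r ∧ x • r = r})))
      (Function.Injective.sumElim (fun a b e => Subtype.ext (congrArg (fun u => u.1) e :))
        (fun a b e => Subtype.ext (congrArg (fun u => u.1) e :)) fun a b e => hne ?_)
    · rw [Nat.card_sum] at hle
      omega
    · have e' : a.1 = b.1 := (congrArg (fun u => u.1) e :)
      have ho : ∀ (a : G) (ha : a ∈ B.NV) (p : B.Om), orbit ↥B.NV (a • p) = orbit ↥B.NV p := fun a ha p =>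
        MulAction.orbit_smul (⟨a, ha⟩ : ↥B.NV) p
      have h1 : orbit ↥B.NV a.1 = orbit ↥B.NV q :=
        (MulAction.orbit_eq_iff.2 a.2.1).trans (ho n hn q)
      have h2 : orbit ↥B.NV b.1 = orbit ↥B.NV q' :=
        (MulAction.orbit_eq_iff.2 b.2.1).trans (ho n' hn' q')
      rw [e'] at h1
      rw [← h1, h2]
      exact mem_orbit_self _

end HexBase

end CfsgLib.JankoFour
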