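import Cfsg.Agent.Lib.JankoFourOrder.RankSeven.FreeSet
import Cfsg.Agent.Lib.JankoFour.SylowThree

/-!
# No free coset is fixed by a Sylow 3-subgroup (owner: helper14)
-/

set_option autoImplicit false
set_option linter.unusedSectionVars false
set_option maxRecDepth 100000

namespace CfsgLib.JankoFour

open Cfsg CfsgLib.ThreeTrans CfsgLib.JankoFourHexad CfsgLib.JankoFourOrder CfsgLib.JankoFour.RankSeven MulAction

variable {G : Type*} [Group G] [Finite G]

namespace HexBase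

variable {S : Setting G} (B : HexBase S) [IsSimpleGroup G] (hG : ¬ IsMulCommutative G) (hJ : IsOfJankoFourType G)
  (hord : Nat.card G = CfsgLib.JankoFourLocals.ord4)

include hG hJ hord in
/-- The stabiliser of a free coset has no subgroup of order twenty-seven. -/
theorem not_twentyseven_dvd {q : B.Om} (hq : B.Free q) : ¬ 27 ∣ Nat.card ↥(B.Mq q) := by
  classical
  haveI : Fact (Nat.Prime 3) := ⟨Nat.prime_three⟩
  intro h27
  have hfac : ∀ m : ℕ, m ≠ 0 → ¬ 3 ∣ m → (3 ^ 3 * m).factorization 3 = 3 := fun m hm h3 => by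
    rw [Nat.factorization_mul (by norm_num) hm, Finsupp.add_apply, Nat.Prime.factorization_pow Nat.prime_three,
      Finsupp.single_eq_same, Nat.factorization_eq_zero_of_not_dvd h3]
  have hfN : (Nat.card ↥B.NV).factorization 3 = 3 := by
    rw [B.card_NV_ordN hG hJ, show ordN = 3 ^ 3 * 18570280960 by decide +kernel]
    exact hfac _ (by norm_num) (by norm_num)
  have hfG : (Nat.card G).factorization 3 = 3 := by
    rw [hord, show CfsgLib.JankoFourLocals.ord4 = 3 ^ 3 * 3213910038743613440 by decide +kernel]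
    exact hfac _ (by norm_num) (by norm_num)
  set L := S.H0 ⊓ Subgroup.normalizer (B.V : Set G)
  obtain ⟨R', hR'⟩ := Sylow.exists_subgroup_card_pow_prime 3 (G := ↥L) (n := 3)
    (by rw [B.card_norm]; norm_num)
  set R0 := R'.map L.subtype with hR0
  have hR0c : Nat.card ↥R0 = 3 ^ 3 := by rw [hR0, Subgroup.card_map_of_injective L.subtype_injective, hR']
  have hR0L : R0 ≤ L := Subgroup.map_subtype_le R'
  let T : Sylow 3 G := Sylow.ofCard R0 (by rw [hR0c, hfG])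
  obtain ⟨-, -, -, hnorm, -⟩ := B.X.F.sylow_three hG T
    fun x hx => S.hH0 (Subgroup.mem_inf.1 (hR0L hx)).1
  have hnorm' : Subgroup.normalizer (R0 : Set G) ≤ Subgroup.centralizer ({S.z} : Set G) := hnorm
  let P : Sylow 3 ↥B.NV := Sylow.ofCard (R0.subgroupOf B.NV) (by
    rw [Nat.card_congr (Subgroup.subgroupOfEquivOfLe (hR0L.trans inf_le_right)).toEquiv, hR0c, hfN])
  have hconj : ∀ Q : Subgroup G, Q ≤ B.NV → Nat.card ↥Q = 3 ^ 3 → ∃ k ∈ B.NV,
      R0.map (MulAut.conj k).toMonoidHom = Q := fun Q hQ hQc => by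
    have hP : (P : Subgroup ↥B.NV).map B.NV.subtype = R0 :=
      Subgroup.map_subgroupOf_eq_of_le (hR0L.trans inf_le_right)
    obtain ⟨k, hk, e⟩ := CfsgLib.Core.exists_conj_of_card_eq P hQ (by rw [hP, hQc, hR0c])
    rw [hP, CfsgLib.Core.conj_smul_eq_map] at e
    exact ⟨k, hk, e⟩
  obtain ⟨R1, hR1⟩ := Sylow.exists_subgroup_card_pow_prime 3 (G := ↥(B.Mq q)) (n := 3) h27
  obtain ⟨k, hk, e⟩ := hconj (R1.map (B.Mq q).subtype) ((Subgroup.map_subtype_le R1).trans inf_le_left)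
    (by rw [Subgroup.card_map_of_injective (B.Mq q).subtype_injective, hR1])
  have hfix : R0 ≤ stabilizer G (k⁻¹ • q) := fun r hr => by
    have h : k * r * k⁻¹ ∈ stabilizer G q :=
      (Subgroup.mem_inf.1 (Subgroup.map_subtype_le R1 (e ▸ ⟨r, hr, rfl⟩ : k * r * k⁻¹ ∈ R1.map _))).2
    have h' := mem_stabilizer_iff.1 h
    rw [mul_smul, mul_smul, ← eq_inv_smul_iff] at h'
    exact h'
  have hq' := B.free_smul (inv_mem hk) hq
  obtain ⟨g, hg⟩ := QuotientGroup.mk_surjective (k⁻¹ • q)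
  rw [← hg] at hfix hq'
  obtain ⟨k2, hk2, e2⟩ := hconj (R0.map (MulAut.conj g⁻¹).toMonoidHom) (by
      rintro _ ⟨r, hr, rfl⟩
      show g⁻¹ * r * g⁻¹⁻¹ ∈ B.NV
      rw [inv_inv]
      exact B.mem_stab_mk.1 (hfix hr))
    (by rw [Subgroup.card_map_of_injective (MulAut.conj g⁻¹).injective, hR0c])
  have hn : g * k2 ∈ Subgroup.normalizer (R0 : Set G) := by
    refine norm_of_map ?_
    ext v
    constructor
    · rintro ⟨r, hr, rfl⟩
      obtain ⟨s, hs, e3⟩ := (e2 ▸ ⟨r, hr, rfl⟩ : k2 * r * k2⁻¹ ∈ R0.map (MulAut.conj g⁻¹).toMonoidHom)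
      have e4 : g⁻¹ * s * g⁻¹⁻¹ = k2 * r * k2⁻¹ := e3
      show g * k2 * r * (g * k2)⁻¹ ∈ R0
      rw [show g * k2 * r * (g * k2)⁻¹ = g * (k2 * r * k2⁻¹) * g⁻¹ by group, ← e4,
        show g * (g⁻¹ * s * g⁻¹⁻¹) * g⁻¹ = s by group]
      exact hs
    · intro hv
      obtain ⟨r, hr, e3⟩ := (e2.symm ▸ ⟨v, hv, rfl⟩ : g⁻¹ * v * g⁻¹⁻¹ ∈ R0.map (MulAut.conj k2).toMonoidHom)
      have e4 : k2 * r * k2⁻¹ = g⁻¹ * v * g⁻¹⁻¹ := e3
      refine ⟨r, hr, ?_⟩
      show g * k2 * r * (g * k2)⁻¹ = v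
      rw [show g * k2 * r * (g * k2)⁻¹ = g * (k2 * r * k2⁻¹) * g⁻¹ by group, e4]
      group
  have hz : Commute (g * k2) S.z := mem_centralizer_singleton_iff'.1 (hnorm' hn)
  have hY : S.z ∈ B.Yq (QuotientGroup.mk g) := by
    rw [show (QuotientGroup.mk g : B.Om) = QuotientGroup.mk (g * k2) from
      QuotientGroup.eq.2 (by rw [inv_mul_cancel_left]; exact hk2), B.mem_Y_mk, mul_assoc, ← hz.eq, inv_mul_cancel_left]
    exact B.z_mem_V
  exact S.hE.z_ne_one (B.free_meet hG hJ hq' B.z_mem_V hY)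

end HexBase

end CfsgLib.JankoFour
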