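import Cfsg.Agent.Lib.JankoFourOrder.RankSeven.M24Count
import Cfsg.Agent.Lib.JankoFourLocals.Sylow
import Cfsg.Agent.Lib.JankoFourEleven.Mathieu

/-!
# General tools for the stabilisers of suborbits (owner: helper14)

Fixed points of an element of prime order on an orbit, and centralisers in M24.
-/

set_option autoImplicit false
set_option linter.unusedSectionVars false
set_option maxRecDepth 100000

namespace CfsgLib.JankoFour.RankSeven

open Cfsg CfsgLib.ThreeTrans MulAction
open CfsgLib.JankoFourLocals (cj mem_cj card_cj conj_in norm' cent card_norm autCard_dvd mem_norm_iff comm_of_prime_card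
  mem_cent_of_commute commute_of_mem_cent)

variable {G : Type*} [Group G] [Finite G] {X : Type*} [MulAction G X]

/-- The fixed points on an orbit form an orbit of the normalizer. -/
theorem fixed_orbit (K : Subgroup G) {p : ℕ} [hp : Fact p.Prime] (q : X) {y : G} (hy : orderOf y = p) (hyK : y ∈ K)
    (hyq : y • q = q) (hd : ¬ p * p ∣ Nat.card ↥K) :
    Nat.card {r : X // r ∈ orbit ↥K q ∧ y • r = r} *
        Nat.card ↥(K ⊓ norm' (Subgroup.zpowers y) ⊓ stabilizer G q) =
      Nat.card ↥(K ⊓ norm' (Subgroup.zpowers y)) := by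
  set U := Subgroup.zpowers y
  set L := K ⊓ norm' U
  have hset : ∀ r : X, (r ∈ orbit ↥K q ∧ y • r = r) ↔ r ∈ orbit ↥L q := by
    intro r
    constructor
    · rintro ⟨⟨k, rfl⟩, hr⟩
      have hr' : y • (k : G) • q = (k : G) • q := hr
      have hy' : orderOf ((k : G)⁻¹ * y * k) = p := by
        rw [← hy]
        refine (SemiconjBy.orderOf_eq (k : G) ?_)
        show (k : G) * ((k : G)⁻¹ * y * k) = y * k
        group
      have hU' : Nat.card ↥(Subgroup.zpowers ((k : G)⁻¹ * y * k)) = p := by rw [Nat.card_zpowers, hy']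
      have hU : Nat.card ↥U = p := by rw [Nat.card_zpowers, hy]
      have hk : (k : G)⁻¹ * y * k ∈ stabilizer G q := by
        rw [mem_stabilizer_iff, mul_smul, mul_smul, hr', inv_smul_smul]
      obtain ⟨c, hc, hcU⟩ := conj_in hp.out (K := K ⊓ stabilizer G q)
        (fun h => hd (h.trans (Subgroup.card_dvd_of_le inf_le_left)))
        (Subgroup.zpowers_le.2 (Subgroup.mem_inf.2 ⟨hyK, mem_stabilizer_iff.2 hyq⟩))
        (Subgroup.zpowers_le.2 (Subgroup.mem_inf.2 ⟨mul_mem (mul_mem (inv_mem k.2) hyK) k.2, hk⟩)) hU hU'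
      obtain ⟨hcK, hcq⟩ := Subgroup.mem_inf.1 hc
      refine ⟨⟨(k : G) * c, Subgroup.mem_inf.2 ⟨mul_mem k.2 hcK, mem_norm_iff.2 ?_⟩⟩, ?_⟩
      · refine Subgroup.eq_of_le_of_card_ge (fun x hx => ?_) (by rw [card_cj])
        rw [mem_cj] at hx
        have h1 : (k : G)⁻¹ * x * k ∈ cj c U := by
          rw [mem_cj, show c⁻¹ * ((k : G)⁻¹ * x * k) * c = ((k : G) * c)⁻¹ * x * ((k : G) * c) by group]
          exact hx
        rw [hcU] at h1
        obtain ⟨i, hi⟩ := Subgroup.mem_zpowers_iff.1 h1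
        refine Subgroup.mem_zpowers_iff.2 ⟨i, ?_⟩
        have h3 : ((k : G)⁻¹ * y * (k : G)⁻¹⁻¹) ^ i = (k : G)⁻¹ * y ^ i * (k : G)⁻¹⁻¹ := conj_zpow
        rw [inv_inv] at h3
        exact mul_left_cancel (mul_right_cancel (h3.symm.trans hi))
      · show ((k : G) * c) • q = (k : G) • q
        rw [mul_smul, mem_stabilizer_iff.1 hcq]
    · rintro ⟨l, rfl⟩
      obtain ⟨hlK, hlN⟩ := Subgroup.mem_inf.1 l.2
      refine ⟨⟨⟨(l : G), hlK⟩, rfl⟩, ?_⟩
      show y • (l : G) • q = (l : G) • q
      have hm : (l : G)⁻¹ * y * l ∈ U := (Subgroup.mem_normalizer_iff''.1 hlN y).1 (Subgroup.mem_zpowers y)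
      have hfix : (l : G)⁻¹ * y * l ∈ stabilizer G q :=
        (Subgroup.zpowers_le (g := y) (H := stabilizer G q)).2 (mem_stabilizer_iff.2 hyq) hm
      conv_rhs => rw [← mem_stabilizer_iff.1 hfix]
      rw [← mul_smul, ← mul_smul]
      congr 1
      group
  have h := Nat.card_congr (MulAction.orbitProdStabilizerEquivGroup ↥L q)
  rw [Nat.card_prod] at h
  rw [← h, Nat.card_congr (Equiv.subtypeEquivRight hset)]
  congr 1
  exact Nat.card_congr
    { toFun := fun a => ⟨⟨a.1, (Subgroup.mem_inf.1 a.2).1⟩, (Subgroup.mem_inf.1 a.2).2⟩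
      invFun := fun a => ⟨(a.1 : G), Subgroup.mem_inf.2 ⟨a.1.2, a.2⟩⟩
      left_inv := fun _ => rfl
      right_inv := fun _ => rfl }

/-- The fixed points of an element of prime order on an invariant set. -/
theorem smul_fixed_modEq [Finite X] {p : ℕ} [hp : Fact p.Prime] {x : G} (hx : x ^ p = 1) (P : X → Prop)
    (hs : ∀ r, P r → P (x • r)) :
    Nat.card {r : X // P r} ≡ Nat.card {r : X // P r ∧ x • r = r} [MOD p] := by
  classical
  let f : Function.End {r : X // P r} := fun r => ⟨x • r.1, hs r.1 r.2⟩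
  have hit : ∀ (k : ℕ) (r : {r : X // P r}), ((f ^ k) r).1 = x ^ k • r.1 := by
    intro k
    induction k with
    | zero => intro r; rw [pow_zero, pow_zero, one_smul]; rfl
    | succ k ih =>
      intro r
      rw [pow_succ', pow_succ']
      show x • ((f ^ k) r).1 = _
      rw [ih, mul_smul]
  have hf : f ^ p ^ 1 = 1 := funext fun r => Subtype.ext (by rw [pow_one, hit, hx, one_smul]; rfl)
  have : Fintype {r : X // P r} := Fintype.ofFinite _
  have h := Equiv.Perm.card_fixedPoints_modEq hf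
  have e : Fintype.card ↥(Function.fixedPoints f) = Nat.card {r : X // P r ∧ x • r = r} := by
    rw [← Nat.card_eq_fintype_card]
    exact Nat.card_congr
      { toFun := fun a => ⟨a.1.1, a.1.2, congrArg Subtype.val a.2⟩
        invFun := fun a => ⟨⟨a.1, a.2.1⟩, Subtype.ext a.2.2⟩
        left_inv := fun _ => rfl
        right_inv := fun _ => rfl }
  rw [Nat.card_eq_fintype_card (α := {r : X // P r}), ← e]
  exact h

theorem card_centralizer_zpowers (y : G) :
    cent (Subgroup.zpowers y) = Subgroup.centralizer ({y} : Set G) := by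
  rw [cent, Subgroup.zpowers_eq_closure, Subgroup.centralizer_closure]

/-- A group with a self-centralising element of order eleven. -/
theorem sylow_eleven {H : Subgroup G} (h11 : 11 ∣ Nat.card ↥H) (hd : ¬ 11 * 11 ∣ Nat.card ↥H)
    (hself : ∀ a ∈ H, orderOf a = 11 → ∀ b ∈ H, Commute b a → b ∈ Subgroup.zpowers a) :
    ∃ r, r ∣ 10 ∧ ∃ c, c % 11 = 1 ∧ Nat.card ↥H = 11 * r * c := by
  classical
  haveI : Fact (Nat.Prime 11) := ⟨by norm_num⟩
  obtain ⟨a, ha⟩ := exists_prime_orderOf_dvd_card' 11 h11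
  have hfac : (Nat.card ↥H).factorization 11 = 1 := by
    have h2 := ((by norm_num : Nat.Prime 11).dvd_iff_one_le_factorization Nat.card_pos.ne').1 h11
    by_contra h3
    exact hd ((pow_two 11) ▸ ((by norm_num : Nat.Prime 11).pow_dvd_iff_le_factorization Nat.card_pos.ne').2 (by omega))
  set P := Subgroup.zpowers a
  let T : Sylow 11 ↥H := Sylow.ofCard P (by rw [Nat.card_zpowers, ha, hfac, pow_one])
  have hPc : Nat.card P = 11 := by rw [Nat.card_zpowers, ha]
  have hmod := card_sylow_modEq_one 11 ↥H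
  rw [T.card_eq_index_normalizer, Nat.ModEq] at hmod
  have hcent : Nat.card ↥(cent P) = 11 := by
    rw [← hPc]
    refine congrArg (fun K : Subgroup ↥H => Nat.card ↥K) (le_antisymm (fun b hb => ?_)
      (comm_of_prime_card (by norm_num) hPc))
    obtain ⟨i, hi⟩ := Subgroup.mem_zpowers_iff.1 (hself a a.2 (by rw [Subgroup.orderOf_coe, ha]) b b.2
      (congrArg Subtype.val (commute_of_mem_cent hb (Subgroup.mem_zpowers a))))
    exact Subgroup.mem_zpowers_iff.2 ⟨i, Subtype.ext (by rw [Subgroup.coe_zpow]; exact hi)⟩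
  have hN := card_norm P
  rw [hcent] at hN
  refine ⟨_, autCard_dvd (by norm_num) hPc, (norm' P).index, hmod.trans (Nat.one_mod _), ?_⟩
  rw [← hN, Subgroup.card_mul_index]

/-- The centraliser of an involution of M24. -/
theorem card_cent_invol {σ : ↥M24} (hσ : orderOf σ = 2) :
    Nat.card ↥(Subgroup.centralizer ({σ} : Set ↥M24)) = 21504 ∨
      Nat.card ↥(Subgroup.centralizer ({σ} : Set ↥M24)) = 7680 := by
  classical
  obtain ⟨-, -, -, hconj⟩ := M24Inv.main
  have key : ∀ {n m : ℕ}, IsInv n σ → Nat.card {g : ↥M24 // IsInv n g} = m →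
      (∀ g : ↥M24, IsInv n g → ((∀ p, (g : Equiv.Perm GolayPt) p ≠ p) ↔ n = 0)) →
      m * Nat.card ↥(Subgroup.centralizer ({σ} : Set ↥M24)) = 244823040 := by
    intro n m hs hm hfree
    have horb : MulAction.orbit (ConjAct ↥M24) σ = {g | IsInv n g} := by
      ext g
      constructor
      · rintro ⟨k, rfl⟩
        exact isInv_conj hs (ConjAct.ofConjAct k)
      · intro hg
        obtain ⟨k, hk, e⟩ := hconj σ σ.2 g g.2 (by rw [Subgroup.orderOf_coe]; exact hs.1)
          (by rw [Subgroup.orderOf_coe]; exact hg.1) ((hfree σ hs).trans (hfree g hg).symm)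
        exact ⟨ConjAct.toConjAct ⟨k, hk⟩, Subtype.ext e⟩
    have h := Nat.card_congr (MulAction.orbitProdStabilizerEquivGroup (ConjAct ↥M24) σ)
    rw [Nat.card_prod, Nat.card_congr (ConjAct.ofConjAct (G := ↥M24)).toEquiv, CfsgLib.Sporadic.M24_card,
      show Nat.card ↥(MulAction.stabilizer (ConjAct ↥M24) σ) =
        Nat.card ↥(Subgroup.centralizer ({σ} : Set ↥M24)) from ?_, horb] at h
    · rw [← h, ← hm]; rfl
    · exact Nat.card_congr
        { toFun := fun c => ⟨ConjAct.ofConjAct (c : ConjAct ↥M24), Subgroup.mem_centralizer_singleton_iff.2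
            (mul_inv_eq_iff_eq_mul.1 (show ConjAct.ofConjAct (c : ConjAct ↥M24) * σ *
              (ConjAct.ofConjAct (c : ConjAct ↥M24))⁻¹ = σ from c.2))⟩
          invFun := fun c => ⟨ConjAct.toConjAct c.1,
            mul_inv_eq_iff_eq_mul.2 (Subgroup.mem_centralizer_singleton_iff.1 c.2)⟩
          left_inv := fun _ => rfl
          right_inv := fun _ => rfl }
  have hf : ∀ {n} (g : ↥M24), IsInv n g → ((∀ p, (g : Equiv.Perm GolayPt) p ≠ p) ↔ n = 0) := fun {n} g hg => by
    rw [← hg.2, Finset.card_eq_zero, Finset.filter_eq_empty_iff]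
    exact ⟨fun h p _ => h p, fun h p => h (Finset.mem_univ p)⟩
  rcases isInv_cases hσ with h | h
  · have := key h card_eight hf
    exact Or.inl (by omega)
  · have := key h card_free hf
    exact Or.inr (by omega)

end CfsgLib.JankoFour.RankSeven
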