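import Cfsg.Agent.Lib.JankoFourOrder.RankSeven.Hexads
import Cfsg.Agent.Lib.JankoFourOrder.RankSeven.LocalTools
import Cfsg.Agent.Lib.JankoFourLocals.Arith

/-!
# The cosets without a fixed duad (owner: helper14)

* `free_card`, `free_sum_zD`, `free_conj_z`: 173023872 cosets, 83647872 fixed conjugates of `z`, no duads;
* `exists_psi`: the stabiliser of a coset modulo its conjugate of `V`;
* `dvd_of_pgroup`: an odd `p`-group in the stabiliser too large for an involution centraliser of M24.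
-/

set_option autoImplicit false
set_option linter.unusedSectionVars false
set_option maxRecDepth 100000

namespace CfsgLib.JankoFour

open Cfsg CfsgLib.ThreeTrans CfsgLib.JankoFourHexad CfsgLib.JankoFourOrder CfsgLib.JankoFour.RankSeven MulAction

variable {G : Type*} [Group G] [Finite G]

namespace HexBase

variable {S : Setting G} (B : HexBase S)

/-- A coset outside the three explicit suborbits. -/
def Free (q : B.Om) : Prop := q ≠ B.base ∧ ∀ b, q ∉ B.incOrbit b

theorem stab_base : stabilizer G B.base = B.NV :=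
  le_antisymm (fun x hx => by simpa using B.mem_stab_mk.1 hx) B.NV_le_stab_base

theorem smul_base {a : G} (ha : a ∈ B.NV) : a • B.base = B.base := mem_stabilizer_iff.1 (B.NV_le_stab_base ha)

theorem smul_mem_incOrbit {a : G} (ha : a ∈ B.NV) {b : Bool} {q : B.Om} (h : q ∈ B.incOrbit b) :
    a • q ∈ B.incOrbit b := by
  obtain ⟨n, rfl⟩ := h
  exact ⟨⟨a, ha⟩ * n, mul_smul (⟨a, ha⟩ : ↥B.NV) n _⟩

theorem free_smul {a : G} (ha : a ∈ B.NV) {q : B.Om} (h : B.Free q) : B.Free (a • q) := by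
  refine ⟨fun e => h.1 ?_, fun b hb => h.2 b ?_⟩
  · rw [← inv_smul_smul a q, e, B.smul_base (inv_mem ha)]
  · rw [← inv_smul_smul a q]; exact B.smul_mem_incOrbit (inv_mem ha) hb

variable [IsSimpleGroup G] (hG : ¬ IsMulCommutative G) (hJ : IsOfJankoFourType G)
  (hord : Nat.card G = CfsgLib.JankoFourLocals.ord4)

include hG hJ in
theorem card_NV_ordN : Nat.card ↥B.NV = ordN := by
  obtain ⟨M⟩ := B.exists_nvModel hG hJ
  exact M.card_NV

include hG hJ hord in
theorem card_Om : Nat.card B.Om = 173067389 := by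
  have h := B.NV.card_mul_index
  rw [B.card_NV_ordN hG hJ, hord, show CfsgLib.JankoFourLocals.ord4 = ordN * 173067389 by decide +kernel] at h
  exact Nat.eq_of_mul_eq_mul_left (by norm_num) h

include hG hJ in
/-- Splitting a sum over the cosets. -/
theorem sum_split [Fintype B.Om] [DecidablePred B.Free] (f : B.Om → ℕ) (c0 : ℕ) (c : Bool → ℕ)
    (h0 : f B.base = c0) (hc : ∀ b, ∀ q ∈ B.incOrbit b, f q = c b) :
    ∑ q, f q = c0 + 15180 * c true + 28336 * c false + ∑ q ∈ Finset.univ.filter B.Free, f q := by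
  classical
  have hval := fun b q => B.incOrbit_values hG hJ (b := b) (q := q)
  have hpt : ∀ q, f q = (if q = B.base then c0 else 0) + (if q ∈ B.incOrbit true then c true else 0) +
      (if q ∈ B.incOrbit false then c false else 0) + (if B.Free q then f q else 0) := by
    intro q
    by_cases hb : q = B.base
    · rw [if_pos hb, if_neg fun h => (hval _ _ h).2.2.2.2 hb, if_neg fun h => (hval _ _ h).2.2.2.2 hb,
        if_neg fun h : B.Free q => h.1 hb, hb, h0]
      rfl
    by_cases ht : q ∈ B.incOrbit true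
    · rw [if_neg hb, if_pos ht, if_neg fun h => absurd ((hval _ _ h).1.1 ((hval _ _ ht).1.2 rfl)) Bool.false_ne_true,
        if_neg fun h : B.Free q => h.2 _ ht, hc _ q ht]
      omega
    by_cases hf : q ∈ B.incOrbit false
    · rw [if_neg hb, if_neg ht, if_pos hf, if_neg fun h : B.Free q => h.2 _ hf, hc _ q hf]
      omega
    · rw [if_neg hb, if_neg ht, if_neg hf, if_pos ⟨hb, fun b => by cases b <;> assumption⟩]
      omega
  have hcard : ∀ b, (Finset.univ.filter fun q => q ∈ B.incOrbit b).card = if b then 15180 else 28336 := fun b => by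
    rw [← B.incOrbit_card hG hJ b, Set.ncard_eq_toFinset_card']
    refine congrArg Finset.card (Finset.ext fun q => ?_)
    simp
  rw [Finset.sum_congr rfl fun q _ => hpt q, Finset.sum_add_distrib, Finset.sum_add_distrib, Finset.sum_add_distrib,
    Finset.sum_ite_eq' Finset.univ B.base, if_pos (Finset.mem_univ _), ← Finset.sum_filter, ← Finset.sum_filter,
    ← Finset.sum_filter, Finset.sum_const, Finset.sum_const, smul_eq_mul, smul_eq_mul, hcard, hcard]
  rfl

include hG hJ hord in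
theorem free_card [Fintype B.Om] [DecidablePred B.Free] : (Finset.univ.filter B.Free).card = 173023872 := by
  have h := B.sum_split hG hJ (fun _ => 1) 1 (fun _ => 1) rfl fun _ _ _ => rfl
  rw [← Finset.card_eq_sum_ones, ← Finset.card_eq_sum_ones, Finset.card_univ, ← Nat.card_eq_fintype_card,
    B.card_Om hG hJ hord] at h
  omega

include hG hJ in
theorem free_sum_zD [Fintype B.Om] [DecidablePred B.Free] :
    ∑ q ∈ Finset.univ.filter B.Free, B.clD S.z q = 83647872 := by
  have h := B.sum_split hG hJ (B.clD S.z) 1771 (fun b => if b then 427 else 91) (B.clD_base hG hJ).1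
    fun b q hq => (B.incOrbit_values hG hJ hq).2.2.1
  rw [B.sum_zD hG hJ] at h
  simp only [if_true, Bool.false_eq_true, if_false] at h
  omega

include hG hJ in
theorem free_clD_t {q : B.Om} (hq : B.Free q) : B.clD B.duadRep q = 0 := by
  classical
  haveI : Fintype B.Om := Fintype.ofFinite _
  have h := B.sum_split hG hJ (B.clD B.duadRep) 276 (fun b => if b then 84 else 36) (B.clD_base hG hJ).2
    fun b q hq => (B.incOrbit_values hG hJ hq).2.2.2.1
  rw [B.sum_tD hG hJ] at h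
  simp only [if_true, Bool.false_eq_true, if_false] at h
  have h0 : ∑ q ∈ Finset.univ.filter B.Free, B.clD B.duadRep q = 0 := by omega
  exact Finset.sum_eq_zero_iff.1 h0 q (Finset.mem_filter.2 ⟨Finset.mem_univ _, hq⟩)

omit [IsSimpleGroup G] in
theorem sq_one_of_V {v : G} (hv : v ∈ B.V) : v * v = 1 := by rw [← pow_two]; exact B.V_elementary.2 v hv

include hG hJ in
/-- The nontrivial elements of `D` are conjugates of `z`. -/
theorem free_conj_z {q : B.Om} (hq : B.Free q) {v : G} (hv : v ∈ B.Dq q) (hv1 : v ≠ 1) : IsConj S.z v := by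
  obtain ⟨ht1, htz⟩ := B.duadRep_facts hG hJ
  refine (B.two_classes hG hJ B.duadRep_mem ht1 htz (B.sq_one_of_V (Subgroup.mem_inf.1 hv).1) hv1).resolve_right
    fun h => ?_
  have h0 := B.free_clD_t hG hJ hq
  rw [clD, Nat.card_eq_zero] at h0
  exact h0.elim (fun e => e.false ⟨⟨v, hv⟩, h⟩) fun e =>
    not_finite {v : ↥(B.Dq q) // IsConj B.duadRep (v : G)}

include hG hJ in
theorem free_clD_z {q : B.Om} (hq : B.Free q) : B.clD S.z q = Nat.card ↥(B.Dq q) - 1 := by
  classical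
  haveI : Fintype ↥(B.Dq q) := Fintype.ofFinite _
  have e : B.clD S.z q = Nat.card {v : ↥(B.Dq q) // ¬ v = 1} :=
    Nat.card_congr (Equiv.subtypeEquivRight fun v =>
      ⟨fun h e => S.hE.z_ne_one (by rwa [e, Subgroup.coe_one, isConj_one_left] at h),
        fun h => B.free_conj_z hG hJ hq v.2 fun e => h (Subtype.ext e)⟩)
  rw [e, Nat.card_eq_fintype_card, Fintype.card_subtype_compl, Fintype.card_subtype_eq, Nat.card_eq_fintype_card]

include hG hJ in
/-- `V` and the conjugate at a free coset meet trivially. -/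
theorem free_meet {q : B.Om} (hq : B.Free q) {v : G} (hv : v ∈ B.V) (hvY : v ∈ B.Yq q) : v = 1 := by
  by_contra h1
  have hz := B.free_conj_z hG hJ hq (Subgroup.mem_inf.2 ⟨hv, B.Y_le_stab q hvY⟩) h1
  rcases B.incident_cases hJ hv hz hvY with h | ⟨b, h⟩
  exacts [hq.1 h, hq.2 b h]

omit [IsSimpleGroup G] in
theorem conj_mem_Dq {q : B.Om} {a v : G} (ha : a ∈ B.Mq q) (hv : v ∈ B.Dq q) : a * v * a⁻¹ ∈ B.Dq q := by
  obtain ⟨ha1, ha2⟩ := Subgroup.mem_inf.1 ha
  obtain ⟨hv1, hv2⟩ := Subgroup.mem_inf.1 hv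
  exact Subgroup.mem_inf.2 ⟨B.conj_mem ha1 hv1, mul_mem (mul_mem ha2 hv2) (inv_mem ha2)⟩

omit [IsSimpleGroup G] in
theorem exists_card_Dq (q : B.Om) : ∃ d ≤ 11, Nat.card ↥(B.Dq q) = 2 ^ d := by
  haveI : Fact (Nat.Prime 2) := ⟨Nat.prime_two⟩
  exact (Nat.dvd_prime_pow Nat.prime_two).1 (B.card_V ▸ Subgroup.card_dvd_of_le inf_le_left)

include hJ in
theorem card_Dq_lt {q : B.Om} (hq : B.Free q) : Nat.card ↥(B.Dq q) < 2 ^ 11 := by
  refine lt_of_le_of_ne (B.card_V ▸ Subgroup.card_le_of_le inf_le_left) fun e => hq.1 (B.eq_base_of_V_le hJ ?_)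
  have h : B.Dq q = B.V := Subgroup.eq_of_le_of_card_ge inf_le_left (by rw [e, B.card_V])
  exact h ▸ inf_le_right

include hG hJ in
/-- The stabiliser in `N(V)` is an extension of `D` by a subgroup of M24. -/
theorem card_Mq (q : B.Om) : ∃ R, R ∣ 244823040 ∧ Nat.card ↥(B.Mq q) = Nat.card ↥(B.Dq q) * R := by
  obtain ⟨Φ, -, hker, -⟩ := B.exists_phi hG hJ
  let φ : ↥(B.Mq q) →* ↥M24 := Φ.comp (Subgroup.inclusion inf_le_left)
  have hk : Nat.card φ.ker = Nat.card ↥(B.Dq q) := Nat.card_congr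
    { toFun := fun a => ⟨((a : ↥(B.Mq q)) : G), Subgroup.mem_inf.2
        ⟨(hker _).1 a.2, (Subgroup.mem_inf.1 (a : ↥(B.Mq q)).2).2⟩⟩
      invFun := fun a => ⟨⟨a, Subgroup.mem_inf.2 ⟨Subgroup.le_normalizer (Subgroup.mem_inf.1 a.2).1,
        (Subgroup.mem_inf.1 a.2).2⟩⟩, (hker _).2 (Subgroup.mem_inf.1 a.2).1⟩
      left_inv := fun _ => rfl
      right_inv := fun _ => rfl }
  refine ⟨Nat.card φ.range, CfsgLib.Sporadic.M24_card ▸ Subgroup.card_subgroup_dvd_card _, ?_⟩
  rw [← hk, ← Subgroup.index_ker, Subgroup.card_mul_index]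

include hG hJ in
/-- The stabiliser of a coset modulo its conjugate of `V`. -/
theorem exists_psi (q : B.Om) : ∃ ψ : ↥(stabilizer G q) →* ↥M24, ∀ x, ψ x = 1 ↔ (x : G) ∈ B.Yq q := by
  obtain ⟨Φ, -, hker, -⟩ := B.exists_phi hG hJ
  obtain ⟨g, rfl⟩ := QuotientGroup.mk_surjective q
  refine ⟨Φ.comp (MonoidHom.mk' (fun x => (⟨g⁻¹ * (x : G) * g, B.mem_stab_mk.1 x.2⟩ : ↥B.NV))
    fun a b => Subtype.ext ?_), fun x => (hker _).trans B.mem_Y_mk.symm⟩
  show g⁻¹ * ((a : G) * b) * g = g⁻¹ * a * g * (g⁻¹ * b * g)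
  group

include hG hJ in
/-- An odd `p`-subgroup too large for an involution centraliser of M24 moves every nontrivial element of `D`. -/
theorem dvd_of_pgroup {q : B.Om} (hq : B.Free q) {R : Subgroup G} (hR : R ≤ B.Mq q) {p : ℕ} [hp : Fact p.Prime]
    (hRp : IsPGroup p ↥R) (hodd : Odd (Nat.card ↥R))
    (hbig : ¬ Nat.card ↥R ∣ 21504 ∧ ¬ Nat.card ↥R ∣ 7680) : p ∣ Nat.card ↥(B.Dq q) - 1 := by
  classical
  by_contra hd
  let X := {v : G // v ∈ B.Dq q ∧ v ≠ 1}
  letI : MulAction ↥R X :=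
    { smul := fun r v => ⟨(r : G) * v.1 * (r : G)⁻¹, B.conj_mem_Dq (hR r.2) v.2.1,
        fun e => v.2.2 (conj_eq_one_iff.1 e)⟩
      one_smul := fun v => Subtype.ext (show ((1 : ↥R) : G) * v.1 * ((1 : ↥R) : G)⁻¹ = v.1 by simp)
      mul_smul := fun r s v => Subtype.ext (show ((r * s : ↥R) : G) * v.1 * ((r * s : ↥R) : G)⁻¹ =
        (r : G) * ((s : G) * v.1 * (s : G)⁻¹) * (r : G)⁻¹ by rw [Subgroup.coe_mul]; group) }
  have hX : Nat.card X = Nat.card ↥(B.Dq q) - 1 := by
    rw [← B.free_clD_z hG hJ hq]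
    exact (Nat.card_congr
      { toFun := fun v => ⟨v.1.1, v.1.2, fun e => S.hE.z_ne_one (by have := v.2; rwa [e, isConj_one_left] at this)⟩
        invFun := fun v => ⟨⟨v.1, v.2.1⟩, B.free_conj_z hG hJ hq v.2.1 v.2.2⟩
        left_inv := fun _ => rfl
        right_inv := fun _ => rfl }).symm
  obtain ⟨v, hv⟩ := hRp.nonempty_fixed_point_of_prime_not_dvd_card X (hX ▸ hd)
  obtain ⟨hvV, hvq⟩ := Subgroup.mem_inf.1 v.2.1
  obtain ⟨ψ, hψ⟩ := B.exists_psi hG hJ q
  haveI : Fact (Nat.Prime 2) := ⟨Nat.prime_two⟩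
  have hv2 : orderOf (ψ ⟨v.1, hvq⟩) = 2 := by
    refine orderOf_eq_prime ?_ fun e => v.2.2 (B.free_meet hG hJ hq hvV ((hψ _).1 e))
    rw [← map_pow, show (⟨v.1, hvq⟩ : ↥(stabilizer G q)) ^ 2 = 1 from
      Subtype.ext (B.V_elementary.2 _ hvV), map_one]
  have hRq : R ≤ stabilizer G q := hR.trans inf_le_right
  let φ : ↥R →* ↥(Subgroup.centralizer ({ψ ⟨v.1, hvq⟩} : Set ↥M24)) :=
    (ψ.comp (Subgroup.inclusion hRq)).codRestrict _ fun r => by
      refine Subgroup.mem_centralizer_singleton_iff.2 ?_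
      have h : (r : G) * v.1 * (r : G)⁻¹ = v.1 := congrArg Subtype.val (hv r)
      show ψ (Subgroup.inclusion hRq r) * ψ ⟨v.1, hvq⟩ = ψ ⟨v.1, hvq⟩ * ψ (Subgroup.inclusion hRq r)
      rw [← map_mul, ← map_mul]
      exact congrArg ψ (Subtype.ext (mul_inv_eq_iff_eq_mul.1 h))
  have hinj : Function.Injective φ := (injective_iff_map_eq_one φ).2 fun r hr => by
    have hY : (r : G) ∈ B.Yq q := (hψ (Subgroup.inclusion hRq r)).1 (congrArg Subtype.val hr)
    have h2 : orderOf r ∣ 2 := orderOf_dvd_of_pow_eq_one (Subtype.ext ((B.Y_elementary q).2 _ hY))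
    rcases (Nat.dvd_prime Nat.prime_two).1 h2 with e | e
    · exact orderOf_eq_one_iff.1 e
    · exact absurd (hodd.of_dvd_nat (e ▸ orderOf_dvd_natCard r)) (by decide)
  have hdvd := Subgroup.card_dvd_of_injective φ hinj
  rcases card_cent_invol hv2 with e | e <;> rw [e] at hdvd
  exacts [hbig.1 hdvd, hbig.2 hdvd]

include hG hJ in
theorem three_dvd_of_nine {q : B.Om} (hq : B.Free q) (h9 : 9 ∣ Nat.card ↥(B.Mq q)) :
    3 ∣ Nat.card ↥(B.Dq q) - 1 := by
  haveI : Fact (Nat.Prime 3) := ⟨Nat.prime_three⟩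
  obtain ⟨R, hR⟩ := Sylow.exists_subgroup_card_pow_prime 3 (show 3 ^ 2 ∣ _ from h9)
  have hc : Nat.card ↥(R.map (B.Mq q).subtype) = 9 := by
    rw [Subgroup.card_map_of_injective (B.Mq q).subtype_injective, hR]; rfl
  exact B.dvd_of_pgroup hG hJ hq (Subgroup.map_subtype_le R)
    (IsPGroup.of_card (n := 2) hc) (by rw [hc]; decide) (by rw [hc]; norm_num)

include hG hJ in
theorem eleven_dvd_of_eleven {q : B.Om} (hq : B.Free q) (h11 : 11 ∣ Nat.card ↥(B.Mq q)) :
    11 ∣ Nat.card ↥(B.Dq q) - 1 := by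
  haveI : Fact (Nat.Prime 11) := ⟨by norm_num⟩
  obtain ⟨x, hx⟩ := exists_prime_orderOf_dvd_card' 11 h11
  have hc : Nat.card ↥(Subgroup.zpowers (x : G)) = 11 := by
    rw [Nat.card_zpowers, Subgroup.orderOf_coe, hx]
  exact B.dvd_of_pgroup hG hJ hq (Subgroup.zpowers_le.2 x.2)
    (IsPGroup.of_card (n := 1) (by rw [hc, pow_one])) (by rw [hc]; decide) (by rw [hc]; norm_num)

end HexBase

end CfsgLib.JankoFour
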