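import Cfsg.Agent.Lib.JankoFourHexad.Cent
import Cfsg.Agent.Lib.JankoFourHexad.CentChecks
import Cfsg.Agent.Lib.JankoFourOrder.Codes

/-!
# Finite checks on the 76 further conjugates of `V` through `z` (owner: helper14)

The conjugate with index `j` meets `V` in the part of the first fixed space in the image `maskData j`; it is normalised
by the lifts in `kData j`. Both kinds of intersections are orbits of the stabiliser of `z` in `N(V)`.
-/

set_option autoImplicit false
set_option maxRecDepth 100000

namespace CfsgLib.JankoFour.RankSeven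

open CfsgLib.JankoFourHexad CfsgLib.JankoFourOrder
open CfsgLib.Sporadic (forallLt countLt maskLt)

/-- The lifts normalising a conjugate, as bit masks. -/
def kData : List ℕ := [65535, 17025, 33825, 33345, 9345, 17025, 17025, 17025, 10305, 771, 153, 33825, 33825, 36873, 1285, 33345, 33345, 18465, 9345, 9345, 9345, 771, 1, 20485, 1, 153, 1, 10305, 10305, 10305, 85, 12291, 771, 771, 20485, 153, 153, 33825, 51, 1, 1285, 1, 36873, 36873, 51, 1285, 1285, 33345, 1, 85, 18465, 18465, 18465, 1, 12291, 1, 1, 1, 20485, 20485, 1, 1, 1, 2313, 85, 85, 2313, 12291, 12291, 2313, 51, 1, 51, 2313, 36873, 1, 1]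

/-- The generator leading to a conjugate. -/
def treeGen : List ℕ := [7, 7, 0, 0, 2, 3, 4, 5, 0, 0, 1, 3, 4, 2, 1, 3, 4, 1, 3, 4, 5, 0, 7, 2, 5, 1, 2, 3, 4, 6, 1, 0, 4, 5, 1, 3, 6, 1, 2, 0, 0, 1, 3, 5, 2, 3, 5, 0, 1, 1, 3, 4, 6, 5, 0, 3, 4, 2, 5, 3, 5, 5, 4, 0, 3, 6, 0, 4, 5, 3, 6, 3, 4, 5, 2, 6, 3]

/-- The conjugate before. -/
def treePar : List ℕ := [0, 0, 1, 4, 2, 1, 1, 1, 2, 31, 30, 2, 2, 8, 9, 3, 3, 4, 4, 4, 4, 54, 0, 64, 41, 49, 39, 8, 8, 8, 44, 44, 9, 9, 31, 10, 10, 6, 7, 22, 23, 22, 13, 13, 1, 14, 14, 20, 39, 38, 17, 17, 17, 22, 38, 22, 22, 22, 34, 34, 56, 55, 57, 74, 30, 30, 13, 31, 31, 66, 44, 39, 44, 66, 27, 41, 57]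

/-- The roots of the two orbits. -/
def rootSmall : ℕ := 22

/-- The roots of the two orbits. -/
def rootLarge : ℕ := 1

/-- The action of the third generator on the second fixed space. -/
def mCW (w : ℕ) : ℕ := xfold (fun i => [1, 2, 17, 34, 5, 10].getD i 0) w 6

/-- The action of a lift on a code. -/
def qShift (k m : ℕ) : ℕ := Nat.xor (m % 64) (phiU k (m / 64)) + 64 * (m / 64)

/-- The action of a generator of the stabiliser on a code. -/
def actQ (g m : ℕ) : ℕ :=
  if g < 3 then uGen g (m % 64) + 64 * (if g < 2 then uGen g (m / 64) else mCW (m / 64)) else qShift (2 ^ (g - 3)) m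

/-- Membership of a code of the first fixed space in a conjugate. -/
noncomputable def inI (j e : ℕ) : Bool := Nat.testBit (maskData.getD j 0) (e / 2)

/-- Membership of a code of `V` in the stabiliser of a conjugate. -/
noncomputable def inD (j e : ℕ) : Bool := Nat.testBit (kData.getD j 0) (e / 128)

/-- Whether a conjugate meets `V` in eight elements. -/
noncomputable def isLarge (j : ℕ) : Bool := Nat.beq (countLt 128 (inI j)) 8

theorem mask_count : forallLt 77 (fun j => Nat.beq (countLt 4096 fun m => Nat.testBit (maskData.getD j 0) m) 64) =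
    true := by decide +kernel

theorem k_spec : forallLt 77 (fun j => forallLt 16 fun k => Nat.testBit (kData.getD j 0) k ==
    forallLt 64 fun u => Nat.testBit (maskData.getD j 0) (qShift k (qWord (wordData.getD j []) u))) = true := by
  decide +kernel

theorem meet_spec : forallLt 77 (fun j => Nat.beq j 0 || (if isLarge j then
      Nat.beq (countLt 128 fun e => inI j e && zCode e) 7
    else Nat.beq (countLt 128 (inI j)) 2 && Nat.beq (countLt 128 fun e => inI j e && zCode e) 1)) = true := by
  decide +kernel

theorem stab_spec : forallLt 77 (fun j => Nat.beq j 0 ||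
    (Nat.beq (countLt 2048 fun e => inD j e && zCode e) (if isLarge j then 427 else 91) &&
      Nat.beq (countLt 2048 fun e => inD j e && Nat.testBit dMask e) (if isLarge j then 84 else 36))) = true := by
  decide +kernel

theorem large_count : Nat.beq (countLt 77 fun j => !Nat.beq j 0 && isLarge j) 60 = true := by decide +kernel

theorem small_count : Nat.beq (countLt 77 fun j => !Nat.beq j 0 && !isLarge j) 16 = true := by decide +kernel

/-- The root of the orbit of a conjugate. -/
noncomputable def rootOf (j : ℕ) : ℕ := if isLarge j then rootLarge else rootSmall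

theorem tree_step : forallLt 77 (fun j => Nat.beq j 0 || Nat.beq j (rootOf j) ||
    (Nat.blt (treeGen.getD j 0) 7 && Nat.blt (treePar.getD j 0) 77 && !Nat.beq (treePar.getD j 0) 0 &&
      (isLarge (treePar.getD j 0) == isLarge j) &&
      forallLt 64 fun u => Nat.testBit (maskData.getD j 0)
        (actQ (treeGen.getD j 0) (qWord (wordData.getD (treePar.getD j 0) []) u)))) = true := by
  decide +kernel

/-- The ancestor. -/
noncomputable def anc (n j : ℕ) : ℕ :=
  Nat.rec j (fun _ ih => if Nat.beq ih (rootOf j) then ih else treePar.getD ih 0) n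

theorem tree_depth : forallLt 77 (fun j => Nat.beq j 0 || Nat.beq (anc 6 j) (rootOf j)) = true := by decide +kernel

theorem mCW_lt : forallLt 64 (fun w => Nat.blt (mCW w) 64) = true := by decide +kernel

theorem mCW_pair : forallLt 64 (fun w => forallLt 64 fun u =>
    Nat.beq (pairB (uGen 2 u) (mCW w)) (pairB u w)) = true := by decide +kernel

/-- The codes not commuting with a code of the second fixed space. -/
noncomputable def pairMask (w : ℕ) : ℕ := maskLt 64 fun u => !Nat.beq (pairB (uGen 2 u) w) 0

theorem pairMask_inj : forallLt 64 (fun a => forallLt 64 fun b =>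
    Nat.beq a b || !Nat.beq (pairMask a) (pairMask b)) = true := by decide +kernel

end CfsgLib.JankoFour.RankSeven
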