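import Cfsg.Agent.Lib.JankoFourOrder.RankSeven.Cosets
import Cfsg.Agent.Lib.JankoFourOrder.RankSeven.HexData

/-!
# The two suborbits of conjugates of `V` meeting `V` in a conjugate of `z` (owner: helper14)

* `incident_cases`: such a coset lies in one of two orbits of `N(V)`;
* `incOrbit_card`: of sizes 15180 and 28336;
* `incOrbit_clD`: their stabilisers in `V` hold 427 and 91 conjugates of `z`, 84 and 36 duads.
-/

set_option autoImplicit false
set_option linter.unusedSectionVars false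
set_option maxRecDepth 100000

namespace CfsgLib.JankoFour

open Cfsg CfsgLib.ThreeTrans CfsgLib.JankoFourHexad CfsgLib.JankoFourOrder CfsgLib.JankoFour.RankSeven MulAction
open CfsgLib.Sporadic (forallLt forallLt_elim forallLt_iff countLt countLt_eq)

theorem card_sigma_const {α : Type*} [Finite α] (β : α → Type*) [∀ a, Finite (β a)] (c : ℕ)
    (h : ∀ a, Nat.card (β a) = c) : Nat.card (Σ a, β a) = Nat.card α * c := by
  classical
  haveI := Fintype.ofFinite α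
  rw [Nat.card_sigma, Finset.sum_congr rfl fun a _ => h a, Finset.sum_const, Finset.card_univ, smul_eq_mul,
    Nat.card_eq_fintype_card]

variable {G : Type*} [Group G] [Finite G]

namespace HexBase

variable {S : Setting G} (B : HexBase S)

theorem beq_false_iff {a b : ℕ} : Nat.beq a b = false ↔ a ≠ b :=
  ⟨fun h e => by subst e; simp at h, fun h => Bool.eq_false_iff.2 fun e => h (Nat.eq_of_beq_eq_true e)⟩

/-- A representative of the conjugate with a given index. -/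
noncomputable def tq (j : Fin 77) : G := (B.exists_word _ (word_ok j).1).choose

theorem tq_C (j : Fin 77) : B.tq j ∈ S.C := (B.exists_word _ (word_ok j).1).choose_spec.1

theorem tq_acts (j : Fin 77) : B.ActsQ (B.tq j) (qWord (wordData.getD j.1 [])) :=
  (B.exists_word _ (word_ok j).1).choose_spec.2

/-- The coset with a given index. -/
noncomputable def pt77 (j : Fin 77) : B.Om := QuotientGroup.mk (B.tq j)

/-- The conjugate of the first fixed space. -/
noncomputable def Fj (j : Fin 77) : Subgroup G := B.X.F1.map (MulAut.conj (B.tq j)).toMonoidHom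

theorem z_Fj (j : Fin 77) {c : G} (hc : c ∈ Subgroup.zpowers S.z) : c ∈ B.Fj j :=
  ⟨c, B.zpowers_le_F1 hc, z_pow_comm (Frame.commute_z (B.tq_C j)) hc⟩

theorem qU {u : ℕ} (hu : u < 64) : B.q u = B.U u := by
  rw [q, Nat.mod_eq_of_lt hu, Nat.div_eq_of_lt hu, W_zero, mul_one]

theorem mem_Fj_iff (j : Fin 77) {x : G} {m : ℕ} (hm : m < 4096) (hx : x * (B.q m)⁻¹ ∈ Subgroup.zpowers S.z) :
    x ∈ B.Fj j ↔ Nat.testBit (maskData.getD j.1 0) m = true := by
  classical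
  set t := B.tq j
  have ht := B.tq_acts j
  have htz := Frame.commute_z (B.tq_C j)
  constructor
  · rintro ⟨y, hy, rfl⟩
    obtain ⟨u, hu, c, hc, rfl⟩ := B.mem_F1_code hy
    obtain ⟨h1, h2⟩ := ht u (by omega)
    rw [B.qU hu] at h2
    have e : qWord (wordData.getD j.1 []) u = m := by
      refine B.q_inj h1 hm ?_
      have hx' : t * (c * B.U u) * t⁻¹ * (B.q m)⁻¹ ∈ Subgroup.zpowers S.z := hx
      rw [show B.q (qWord (wordData.getD j.1 []) u) * (B.q m)⁻¹ =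
        (t * B.U u * t⁻¹ * (B.q (qWord (wordData.getD j.1 []) u))⁻¹)⁻¹ * (t * c * t⁻¹)⁻¹ *
          (t * (c * B.U u) * t⁻¹ * (B.q m)⁻¹) by group]
      exact mul_mem (mul_mem (inv_mem h2) (inv_mem (by rw [z_pow_comm htz hc]; exact hc))) hx'
    exact e ▸ (word_ok j).2 ⟨u, hu⟩
  · intro hb
    set s := (Finset.range 4096).filter fun m => Nat.testBit (maskData.getD j.1 0) m = true
    have hcard : s.card = 64 := by
      rw [← countLt_eq]
      exact Nat.eq_of_beq_eq_true (forallLt_elim mask_count j.2)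
    have hsub : (Finset.range 64).image (qWord (wordData.getD j.1 [])) ⊆ s := fun a ha => by
      obtain ⟨u, hu, rfl⟩ := Finset.mem_image.1 ha
      exact Finset.mem_filter.2 ⟨Finset.mem_range.2 (ht u (by have := Finset.mem_range.1 hu; omega)).1,
        (word_ok j).2 ⟨u, Finset.mem_range.1 hu⟩⟩
    have hinj : Set.InjOn (qWord (wordData.getD j.1 [])) ↑(Finset.range 64) := by
      intro a ha b hb' e
      have ha' : a < 64 := Finset.mem_range.1 ha
      have hb'' : b < 64 := Finset.mem_range.1 hb'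
      obtain ⟨-, h1⟩ := ht a (by omega)
      obtain ⟨-, h2⟩ := ht b (by omega)
      rw [e] at h1
      refine B.q_inj (by omega) (by omega) ?_
      have h3 : t * (B.q a * (B.q b)⁻¹) * t⁻¹ ∈ Subgroup.zpowers S.z := by
        rw [show t * (B.q a * (B.q b)⁻¹) * t⁻¹ = (t * B.q a * t⁻¹ * (B.q (qWord (wordData.getD j.1 []) b))⁻¹) *
          (t * B.q b * t⁻¹ * (B.q (qWord (wordData.getD j.1 []) b))⁻¹)⁻¹ by group]
        exact mul_mem h1 (inv_mem h2)
      have h4 := z_pow_comm (g := t⁻¹) htz.inv_left h3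
      rw [show t⁻¹ * (t * (B.q a * (B.q b)⁻¹) * t⁻¹) * t⁻¹⁻¹ = B.q a * (B.q b)⁻¹ by group] at h4
      rwa [← h4] at h3
    have hmem : m ∈ (Finset.range 64).image (qWord (wordData.getD j.1 [])) := by
      rw [Finset.eq_of_subset_of_card_le hsub (by rw [hcard, Finset.card_image_of_injOn hinj, Finset.card_range])]
      exact Finset.mem_filter.2 ⟨Finset.mem_range.2 hm, hb⟩
    obtain ⟨u, hu, rfl⟩ := Finset.mem_image.1 hmem
    have hu' := Finset.mem_range.1 hu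
    obtain ⟨-, h2⟩ := ht u (by omega)
    rw [B.qU hu'] at h2
    rw [show x = x * (B.q (qWord (wordData.getD j.1 []) u))⁻¹ *
      (t * B.U u * t⁻¹ * (B.q (qWord (wordData.getD j.1 []) u))⁻¹)⁻¹ * (t * B.U u * t⁻¹) by group]
    exact mul_mem (mul_mem (B.z_Fj j hx) (B.z_Fj j (inv_mem h2))) ⟨B.U u, B.U_mem u, rfl⟩

/-- An element of `H0` moving the conjugate of the first fixed space into another moves the cosets. -/
theorem smul_pt77_of {g : G} (hg : g ∈ S.H0) {i j : Fin 77}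
    (h : ∀ u < 64, g * (B.tq i * B.U u * (B.tq i)⁻¹) * g⁻¹ ∈ B.Fj j) : g • B.pt77 i = B.pt77 j := by
  have hgz : Commute g S.z := mem_centralizer_singleton_iff'.1 (S.hH0 hg)
  have hH : (B.tq j)⁻¹ * g * B.tq i ∈ S.H0 :=
    mul_mem (mul_mem (inv_mem (S.C_le_H0 (B.tq_C j))) hg) (S.C_le_H0 (B.tq_C i))
  have hN : (B.tq j)⁻¹ * g * B.tq i ∈ B.NV := by
    refine (B.norm_eq.symm ▸ Subgroup.mem_inf.2 ⟨hH, ?_⟩ : _ ∈ S.H0 ⊓ Subgroup.normalizer (B.V : Set G)).2
    refine norm_of_map (Subgroup.eq_of_le_of_card_ge ?_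
      (by rw [Subgroup.card_map_of_injective (MulAut.conj _).injective]))
    rintro _ ⟨x, hx, rfl⟩
    obtain ⟨u, hu, c, hc, rfl⟩ := B.mem_F1_code hx
    have hk : g * (B.tq i * (c * B.U u) * (B.tq i)⁻¹) * g⁻¹ ∈ B.Fj j := by
      rw [show g * (B.tq i * (c * B.U u) * (B.tq i)⁻¹) * g⁻¹ =
        g * (B.tq i * c * (B.tq i)⁻¹) * g⁻¹ * (g * (B.tq i * B.U u * (B.tq i)⁻¹) * g⁻¹) by group,
        z_pow_comm (Frame.commute_z (B.tq_C i)) hc, z_pow_comm hgz hc]
      exact mul_mem (B.z_Fj j hc) (h u hu)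
    obtain ⟨y, hy, e⟩ := hk
    have e' : B.tq j * y * (B.tq j)⁻¹ = g * (B.tq i * (c * B.U u) * (B.tq i)⁻¹) * g⁻¹ := e
    show (B.tq j)⁻¹ * g * B.tq i * (c * B.U u) * ((B.tq j)⁻¹ * g * B.tq i)⁻¹ ∈ B.X.F1
    rw [show (B.tq j)⁻¹ * g * B.tq i * (c * B.U u) * ((B.tq j)⁻¹ * g * B.tq i)⁻¹ =
      (B.tq j)⁻¹ * (g * (B.tq i * (c * B.U u) * (B.tq i)⁻¹) * g⁻¹) * B.tq j by group, ← e']
    simpa [mul_assoc] using hy
  rw [pt77, pt77, smul_mk, eq_comm, QuotientGroup.eq, ← mul_assoc]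
  exact hN

/-- An element of `H0` fixing the coset normalises the conjugate of the first fixed space. -/
theorem conj_Fj_of_fix {g : G} (hg : g ∈ S.H0) {j : Fin 77} (h : g • B.pt77 j = B.pt77 j) {x : G} (hx : x ∈ B.Fj j) :
    g * x * g⁻¹ ∈ B.Fj j := by
  have hN : (B.tq j)⁻¹ * g * B.tq j ∈ B.NV := B.mem_stab_mk.1 (mem_stabilizer_iff.2 h)
  have hH : (B.tq j)⁻¹ * g * B.tq j ∈ S.H0 :=
    mul_mem (mul_mem (inv_mem (S.C_le_H0 (B.tq_C j))) hg) (S.C_le_H0 (B.tq_C j))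
  have hn : (B.tq j)⁻¹ * g * B.tq j ∈ Subgroup.normalizer (B.X.F1 : Set G) :=
    (B.norm_eq ▸ Subgroup.mem_inf.2 ⟨hH, hN⟩ : _ ∈ S.H0 ⊓ Subgroup.normalizer (B.X.F1 : Set G)).2
  obtain ⟨y, hy, rfl⟩ := hx
  refine ⟨_, (Subgroup.mem_normalizer_iff.1 hn y).1 hy, ?_⟩
  show B.tq j * ((B.tq j)⁻¹ * g * B.tq j * y * ((B.tq j)⁻¹ * g * B.tq j)⁻¹) * (B.tq j)⁻¹ =
    g * (B.tq j * y * (B.tq j)⁻¹) * g⁻¹
  group

theorem q_split (m : ℕ) : B.q m = B.U (m % 64) * B.W (m / 64) := rfl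

theorem q_shift {m : ℕ} {a b : ℕ} (ha : a < 64) : B.q (a + 64 * b) * (B.U a * B.W b)⁻¹ = 1 := by
  rw [B.q_mk ha, mul_inv_cancel]

/-- Elements of `E` act trivially modulo `z`. -/
theorem E_conj {e y : G} (he : e ∈ S.E) (hy : y ∈ S.E) : e * y * e⁻¹ * y⁻¹ ∈ Subgroup.zpowers S.z := by
  rcases S.hE.conj_eq_or he hy with h | h <;> rw [h]
  · rw [mul_inv_cancel]; exact one_mem _
  · rw [mul_inv_cancel_right]; exact Subgroup.mem_zpowers _

/-- The action of an element of `V` on codes. -/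
theorem vel_conj_q {e m : ℕ} (he : e < 2048) (hm : m < 4096) :
    qShift (e / 128) m < 4096 ∧
      B.vel e * B.q m * (B.vel e)⁻¹ * (B.q (qShift (e / 128) m))⁻¹ ∈ Subgroup.zpowers S.z := by
  have hk : e / 128 < 16 := by omega
  have hw : m / 64 < 64 := by omega
  obtain ⟨hkU, hkW⟩ := B.moves_prod4 ⟨e / 128, hk⟩
  obtain ⟨c, hc, ec⟩ := hkW (m / 64) hw
  dsimp only at ec hkU
  rw [show Nat.shiftRight (phiS (e / 128) (m / 64)) 1 = phiU (e / 128) (m / 64) from rfl] at ec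
  set f := phiU (e / 128) (m / 64)
  have hf : f < 64 := phiU_lt ⟨_, hk⟩ ⟨_, hw⟩
  have hlt : Nat.xor (m % 64) f < 64 := Nat.xor_lt_two_pow (n := 6) (Nat.mod_lt _ (by norm_num)) hf
  refine ⟨by show Nat.xor (m % 64) f + 64 * (m / 64) < 4096; omega, ?_⟩
  have hsplit := B.vel_split ⟨e, he⟩
  rw [show Nat.shiftRight e 7 = e / 128 by show e >>> 7 = _; rw [Nat.shiftRight_eq_div_pow], B.gprod_kl] at hsplit
  set k := prod4 B.X.kl (e / 128)
  set zz := zpar S.z e * B.U (eU e)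
  have hzzE : zz ∈ S.E := mul_mem (zpar_E e) (B.X.F1_le_E (B.U_mem _))
  have hkz : Commute k S.z := Frame.commute_z (HexFrame.prod4_mem (fun i _ => B.X.kl_mem i) _)
  have h1 : k * B.q m * k⁻¹ = c * B.q (qShift (e / 128) m) := by
    rw [qShift, B.q_mk hlt, ← B.U_xor, B.q_split]
    have hcU : Commute c (B.U (m % 64)) :=
      (Frame.commute_z_zpowers (S := S) (S.hE.commute_z (B.X.F1_le_E (B.U_mem _))) hc).symm
    calc k * (B.U (m % 64) * B.W (m / 64)) * k⁻¹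
        = (k * B.U (m % 64) * k⁻¹) * (k * B.W (m / 64) * k⁻¹) := by group
      _ = B.U (m % 64) * (c * B.U f * B.W (m / 64)) := by rw [hkU, ec]
      _ = c * (B.U (m % 64) * B.U f * B.W (m / 64)) := by
          rw [show B.U (m % 64) * (c * B.U f * B.W (m / 64)) = B.U (m % 64) * c * B.U f * B.W (m / 64) by group,
            ← hcU.eq]
          group
  have hz2 : zz * c * zz⁻¹ = c := z_pow_comm (S.hE.commute_z hzzE) hc
  rw [hsplit]
  show zz * k * B.q m * (zz * k)⁻¹ * (B.q (qShift (e / 128) m))⁻¹ ∈ Subgroup.zpowers S.z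
  rw [show zz * k * B.q m * (zz * k)⁻¹ * (B.q (qShift (e / 128) m))⁻¹ =
    zz * (k * B.q m * k⁻¹) * zz⁻¹ * (B.q (qShift (e / 128) m))⁻¹ by group, h1,
    show zz * (c * B.q (qShift (e / 128) m)) * zz⁻¹ * (B.q (qShift (e / 128) m))⁻¹ =
      (zz * c * zz⁻¹) * (zz * B.q (qShift (e / 128) m) * zz⁻¹ * (B.q (qShift (e / 128) m))⁻¹) by group, hz2]
  exact mul_mem hc (E_conj hzzE (B.q_mem _))

/-- Modulo `z`, the conjugate of a code of a conjugate. -/
theorem conj_code {g : G} (hg : Commute g S.z) {i : Fin 77} {u : ℕ} (hu : u < 64) {m : ℕ}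
    (h : g * B.q (qWord (wordData.getD i.1 []) u) * g⁻¹ * (B.q m)⁻¹ ∈ Subgroup.zpowers S.z) :
    g * (B.tq i * B.U u * (B.tq i)⁻¹) * g⁻¹ * (B.q m)⁻¹ ∈ Subgroup.zpowers S.z := by
  obtain ⟨-, h2⟩ := B.tq_acts i u (by omega)
  rw [B.qU hu] at h2
  set a := B.q (qWord (wordData.getD i.1 []) u)
  rw [show g * (B.tq i * B.U u * (B.tq i)⁻¹) * g⁻¹ * (B.q m)⁻¹ =
    (g * (B.tq i * B.U u * (B.tq i)⁻¹ * a⁻¹) * g⁻¹) * (g * a * g⁻¹ * (B.q m)⁻¹) by group, z_pow_comm hg h2]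
  exact mul_mem h2 h

theorem stab_pt77_iff (j : Fin 77) {e : ℕ} (he : e < 2048) :
    B.vel e • B.pt77 j = B.pt77 j ↔ inD j.1 e = true := by
  have hk := forallLt_elim (forallLt_elim k_spec j.2) (show e / 128 < 16 by omega)
  rw [beq_iff_eq] at hk
  have hH : B.vel e ∈ S.H0 := B.V_le_H0 (B.vel_mem he)
  have hz : Commute (B.vel e) S.z := mem_centralizer_singleton_iff'.1 (S.hH0 hH)
  have key : ∀ u, ∀ hu : u < 64, B.vel e * (B.tq j * B.U u * (B.tq j)⁻¹) * (B.vel e)⁻¹ ∈ B.Fj j ↔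
      Nat.testBit (maskData.getD j.1 0) (qShift (e / 128) (qWord (wordData.getD j.1 []) u)) = true := fun u hu => by
    obtain ⟨h1, h2⟩ := B.vel_conj_q he (B.tq_acts j u (by omega)).1
    exact B.mem_Fj_iff j h1 (B.conj_code hz hu h2)
  rw [inD, hk, forallLt_iff]
  exact ⟨fun h u hu => (key u hu).1 (B.conj_Fj_of_fix hH h ⟨_, B.U_mem u, rfl⟩),
    fun h => B.smul_pt77_of hH fun u hu => (key u hu).2 (h u hu)⟩

theorem E_fix (j : Fin 77) {x : G} (hx : x ∈ S.E) : x • B.pt77 j = B.pt77 j := by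
  refine mem_stabilizer_iff.1 (B.mem_stab_mk.2 (B.EP_norm (Subgroup.mem_sup_left ?_)))
  have := S.hE.conj_mem (Frame.commute_z (B.tq_C j)).inv_left hx
  rwa [inv_inv] at this

theorem mem_Y_pt77_iff {j : Fin 77} (hj : j.1 ≠ 0) {e : ℕ} (he : e < 2048) :
    B.vel e ∈ B.Yq (B.pt77 j) ↔ e < 128 ∧ inI j.1 e = true := by
  have htz := Frame.commute_z (B.tq_C j)
  have hEFj : ∀ {x : G}, x ∈ S.E → x ∈ B.Yq (B.pt77 j) → x ∈ B.Fj j := fun {x} hxE hxY => by
    refine ⟨(B.tq j)⁻¹ * x * B.tq j, B.mem_F1_of_V (B.mem_Y_mk.1 hxY) ?_, ?_⟩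
    · have := S.hE.conj_mem htz.inv_left hxE
      rwa [inv_inv] at this
    · show B.tq j * ((B.tq j)⁻¹ * x * B.tq j) * (B.tq j)⁻¹ = x
      group
  by_cases hlow : e < 128
  · have hE : B.vel e ∈ S.E := B.el_vel hlow ▸ B.el_mem _
    have hiff : B.vel e ∈ B.Fj j ↔ inI j.1 e = true :=
      B.mem_Fj_iff j (by omega) (B.vel_q hlow).2
    refine ⟨fun h => ⟨hlow, hiff.1 (hEFj hE h)⟩, fun h => ?_⟩
    obtain ⟨y, hy, e'⟩ := hiff.2 h.2
    have e'' : B.tq j * y * (B.tq j)⁻¹ = B.vel e := e'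
    refine B.mem_Y_mk.2 ?_
    rw [← e'', show (B.tq j)⁻¹ * (B.tq j * y * (B.tq j)⁻¹) * B.tq j = y by group]
    exact B.F1_le_V hy
  · refine iff_of_false (fun h => ?_) fun h => hlow h.1
    have hc := forallLt_elim hexad_shift j.2
    simp only [Bool.or_eq_true, Nat.beq_eq] at hc
    have hc := forallLt_elim (hc.resolve_left hj) (show e / 128 < 16 by omega)
    simp only [Bool.or_eq_true, Nat.beq_eq] at hc
    obtain ⟨w, hw, hbit⟩ := exists_of_count (hc.resolve_left (by omega))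
    rw [Bool.not_eq_true'] at hbit
    obtain ⟨h1, h2⟩ := B.vel_conj_q he (show 64 * w < 4096 by omega)
    have hWE : B.W w ∈ S.E := B.X.F2_le_E (B.W_mem w)
    have hxz : Commute (B.vel e) S.z := mem_centralizer_singleton_iff'.1 (S.hH0 (B.V_le_H0 (B.vel_mem he)))
    set x := B.vel e
    have hcY : x * B.W w * x⁻¹ * (B.W w)⁻¹ ∈ B.Yq (B.pt77 j) := by
      rw [show x * B.W w * x⁻¹ * (B.W w)⁻¹ = x * (B.W w * x⁻¹ * (B.W w)⁻¹) by group]
      refine mul_mem h ?_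
      have hn := B.mem_normY.1 (mem_stabilizer_iff.2 (B.E_fix j hWE))
      exact (Subgroup.mem_normalizer_iff.1 hn _).1 (inv_mem h)
    have hcE : x * B.W w * x⁻¹ * (B.W w)⁻¹ ∈ S.E := mul_mem (S.hE.conj_mem hxz hWE) (inv_mem hWE)
    have hf : phiU (e / 128) w < 64 := phiU_lt ⟨_, by omega⟩ ⟨w, hw⟩
    have hq1 : B.q (64 * w) = B.W w := by
      rw [show 64 * w = 0 + 64 * w by omega, B.q_mk (by norm_num), U_zero, one_mul]
    have hq2 : B.q (qShift (e / 128) (64 * w)) = B.U (phiU (e / 128) w) * B.W w := by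
      rw [qShift, show 64 * w % 64 = 0 by omega, show 64 * w / 64 = w by omega,
        show Nat.xor 0 (phiU (e / 128) w) = phiU (e / 128) w from Nat.zero_xor _, B.q_mk hf]
    rw [hq1, hq2] at h2
    have h3 : x * B.W w * x⁻¹ * (B.W w)⁻¹ * (B.q (phiU (e / 128) w))⁻¹ ∈ Subgroup.zpowers S.z := by
      set d := x * B.W w * x⁻¹ * (B.U (phiU (e / 128) w) * B.W w)⁻¹
      rw [B.qU hf, show x * B.W w * x⁻¹ * (B.W w)⁻¹ = d * B.U (phiU (e / 128) w) by simp only [d]; group,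
        mul_inv_cancel_right]
      exact h2
    have := (B.mem_Fj_iff j (by omega) h3).1 (hEFj hcE hcY)
    rw [show Nat.shiftRight (phiS (e / 128) w) 1 = phiU (e / 128) w from rfl] at hbit
    rw [hbit] at this
    exact Bool.noConfusion this

/-- The elements of `V` with a property, counted by codes. -/
theorem card_vel (P : G → Prop) (f : ℕ → Bool) (h : ∀ e < 2048, P (B.vel e) ↔ f e = true) :
    Nat.card {v : ↥B.V // P (v : G)} = countLt 2048 f := by
  rw [← card_fin_subtype (fun i : Fin 2048 => P (B.vel i.1)) f fun i => h i.1 i.2]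
  refine (Nat.card_congr (Equiv.ofBijective (fun n => ⟨⟨_, B.vel_mem n.1.2⟩, n.2⟩) ⟨fun a b e => ?_, fun v => ?_⟩)).symm
  · exact Subtype.ext (Fin.ext (B.vel_inj a.1.2 b.1.2 (congrArg (fun u => ((u.1 : ↥B.V) : G)) e)))
  · obtain ⟨n, hn, e⟩ := v.1.2
    exact ⟨⟨⟨n, hn⟩, e ▸ v.2⟩, Subtype.ext (Subtype.ext e)⟩

theorem countLt_low (f : ℕ → Bool) : countLt 2048 (fun e => Nat.blt e 128 && f e) = countLt 128 f := by
  rw [countLt_eq, countLt_eq]
  refine congrArg Finset.card (Finset.ext fun e => ?_)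
  simp only [Finset.mem_filter, Finset.mem_range, Bool.and_eq_true, Nat.blt_eq]
  constructor
  · exact fun h => ⟨h.2.1, h.2.2⟩
  · exact fun h => ⟨by omega, h.1, h.2⟩

/-- `V` meets the conjugate at a coset. -/
noncomputable def meetCard (q : B.Om) : ℕ := Nat.card {v : ↥B.V // (v : G) ∈ B.Yq q}

/-- The conjugates of `z` in the meet. -/
noncomputable def meetZ (q : B.Om) : ℕ := Nat.card {v : ↥B.V // IsConj S.z (v : G) ∧ (v : G) ∈ B.Yq q}

theorem meet_smul {a : G} (ha : a ∈ B.NV) (q : B.Om) :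
    B.meetCard (a • q) = B.meetCard q ∧ B.meetZ (a • q) = B.meetZ q := by
  let e : ↥B.V ≃ ↥B.V :=
    { toFun := fun v => ⟨a * v * a⁻¹, B.conj_mem ha v.2⟩
      invFun := fun v => ⟨a⁻¹ * v * a⁻¹⁻¹, B.conj_mem (inv_mem ha) v.2⟩
      left_inv := fun v => Subtype.ext (by simp [mul_assoc])
      right_inv := fun v => Subtype.ext (by simp [mul_assoc]) }
  constructor
  · exact (Nat.card_congr (e.subtypeEquiv fun v => B.mem_Y_smul.symm)).symm
  · refine (Nat.card_congr (e.subtypeEquiv fun v => and_congr ?_ B.mem_Y_smul.symm)).symm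
    exact ⟨fun h => h.trans (isConj_iff.2 ⟨a, rfl⟩), fun h => h.trans (isConj_iff.2 ⟨a, rfl⟩).symm⟩

variable [IsSimpleGroup G]

theorem pt77_meet (hG : ¬ IsMulCommutative G) (hJ : IsOfJankoFourType G) {j : Fin 77} (hj : j.1 ≠ 0) :
    (B.meetCard (B.pt77 j) = 8 ↔ isLarge j.1 = true) ∧
      B.meetZ (B.pt77 j) = if isLarge j.1 then 7 else 1 := by
  have h1 : B.meetCard (B.pt77 j) = countLt 128 (inI j.1) := by
    rw [meetCard, B.card_vel (fun x => x ∈ B.Yq (B.pt77 j)) (fun e => Nat.blt e 128 && inI j.1 e) fun e he => by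
      rw [B.mem_Y_pt77_iff hj he, Bool.and_eq_true, Nat.blt_eq], countLt_low]
  have h2 : B.meetZ (B.pt77 j) = countLt 128 (fun e => inI j.1 e && zCode e) := by
    rw [meetZ, B.card_vel (fun x => IsConj S.z x ∧ x ∈ B.Yq (B.pt77 j))
      (fun e => Nat.blt e 128 && (inI j.1 e && zCode e)) fun e he => by
        rw [B.mem_Y_pt77_iff hj he, ← B.zBit_iff hG hJ he, Bool.and_eq_true, Bool.and_eq_true, Nat.blt_eq]
        exact ⟨fun h => ⟨h.2.1, h.2.2, h.1⟩, fun h => ⟨h.2.2, h.1, h.2.1⟩⟩, countLt_low]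
  refine ⟨by rw [h1, isLarge, Nat.beq_eq], ?_⟩
  have h := forallLt_elim meet_spec j.2
  rw [Bool.or_eq_true, Nat.beq_eq] at h
  have h := h.resolve_left hj
  rw [h2]
  cases hl : isLarge j.1
  · rw [hl] at h
    simp only [Bool.false_eq_true, if_false, Bool.and_eq_true, Nat.beq_eq] at h ⊢
    exact h.2
  · rw [hl] at h
    simp only [if_true, Nat.beq_eq] at h ⊢
    exact h

theorem pt77_clD (hG : ¬ IsMulCommutative G) (hJ : IsOfJankoFourType G) {j : Fin 77} (hj : j.1 ≠ 0) :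
    B.clD S.z (B.pt77 j) = (if isLarge j.1 then 427 else 91) ∧
      B.clD B.duadRep (B.pt77 j) = (if isLarge j.1 then 84 else 36) := by
  obtain ⟨-, hD, -⟩ := B.duads_spec hG hJ
  obtain ⟨ht1, htz⟩ := B.duadRep_facts hG hJ
  have h := forallLt_elim stab_spec j.2
  rw [Bool.or_eq_true, Nat.beq_eq] at h
  have h := h.resolve_left hj
  rw [Bool.and_eq_true, Nat.beq_eq, Nat.beq_eq] at h
  have key : ∀ x : G, B.clD x (B.pt77 j) = Nat.card {v : ↥B.V // IsConj x (v : G) ∧ (v : G) • B.pt77 j = B.pt77 j} :=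
    fun x => Nat.card_congr
      { toFun := fun v => ⟨⟨v.1.1, (Subgroup.mem_inf.1 v.1.2).1⟩, v.2, (Subgroup.mem_inf.1 v.1.2).2⟩
        invFun := fun v => ⟨⟨v.1.1, Subgroup.mem_inf.2 ⟨v.1.2, v.2.2⟩⟩, v.2.1⟩
        left_inv := fun _ => rfl
        right_inv := fun _ => rfl }
  constructor
  · rw [key, B.card_vel (fun x => IsConj S.z x ∧ x • B.pt77 j = B.pt77 j) (fun e => inD j.1 e && zCode e) fun e he => by
      rw [B.stab_pt77_iff j he, ← B.zBit_iff hG hJ he, Bool.and_eq_true]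
      exact and_comm]
    exact h.1
  · rw [key, B.card_vel (fun x => IsConj B.duadRep x ∧ x • B.pt77 j = B.pt77 j)
      (fun e => inD j.1 e && Nat.testBit dMask e) fun e he => by
        rw [B.stab_pt77_iff j he, Bool.and_eq_true, hD e he, and_comm]
        refine and_congr_right fun _ => ⟨fun h => ⟨fun e0 => ht1 ?_, fun hz => htz
          ((show IsConj S.z _ from hz).trans h.symm)⟩, fun h => ?_⟩
        · rw [e0, B.vel_zero] at h
          obtain ⟨g, hg⟩ := isConj_iff.1 h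
          rw [← conj_eq_one_iff (a := g), hg]
        · exact (B.two_classes hG hJ B.duadRep_mem ht1 htz (B.vel_sq _)
            (fun e0 => h.1 (B.vel_eq_one he e0))).resolve_left h.2]
    exact h.2

/-- The cosets whose conjugate of `V` contains `z`. -/
theorem exists_pt77 (hJ : IsOfJankoFourType G) {q : B.Om} (h : S.z ∈ B.Yq q) : ∃ j, q = B.pt77 j := by
  obtain ⟨g, rfl⟩ := QuotientGroup.mk_surjective q
  obtain ⟨n, hn, e⟩ := B.fuse hJ (g := g⁻¹) (by rw [inv_inv]; exact B.mem_Y_mk.1 h)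
  have hgn : (QuotientGroup.mk g : B.Om) = QuotientGroup.mk (g * n) :=
    QuotientGroup.eq.2 (by rw [inv_mul_cancel_left]; exact hn)
  rw [hgn]
  have hc : Commute (g * n) S.z := by
    show g * n * S.z = S.z * (g * n)
    calc g * n * S.z = g * (n * S.z * n⁻¹) * n := by group
      _ = _ := by rw [e, inv_inv]; group
  obtain ⟨h', hh', eh⟩ : ∃ h' ∈ S.H0, (QuotientGroup.mk (g * n) : B.Om) = QuotientGroup.mk h' := by
    by_cases hg : g * n ∈ S.H0
    · exact ⟨_, hg, rfl⟩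
    · obtain ⟨m, hmz, hm0, hm⟩ := B.exists_outer_norm hJ
      exact ⟨g * n * m, S.hidx _ _ hc hmz hg hm0, QuotientGroup.eq.2 (by rw [inv_mul_cancel_left]; exact hm)⟩
  obtain ⟨j, t, htC, ht, ha⟩ := B.exists_word_rep hh'
  refine ⟨j, eh.trans (QuotientGroup.eq.2 ?_)⟩
  -- two representatives with the same index
  have haH : t⁻¹ * h' ∈ S.H0 := mul_mem (inv_mem (S.C_le_H0 htC)) hh'
  have haV : t⁻¹ * h' ∈ B.NV := (B.norm_eq.symm ▸ Subgroup.mem_inf.2 ⟨haH, ha⟩ :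
    t⁻¹ * h' ∈ S.H0 ⊓ Subgroup.normalizer (B.V : Set G)).2
  have hfix : t⁻¹ * B.tq j ∈ B.NV := by
    refine (B.norm_eq.symm ▸ Subgroup.mem_inf.2
      ⟨mul_mem (inv_mem (S.C_le_H0 htC)) (S.C_le_H0 (B.tq_C j)), ?_⟩ : _ ∈ S.H0 ⊓ Subgroup.normalizer (B.V : Set G)).2
    refine norm_of_map (Subgroup.eq_of_le_of_card_ge ?_
      (by rw [Subgroup.card_map_of_injective (MulAut.conj _).injective]))
    rintro _ ⟨x, hx, rfl⟩
    obtain ⟨u, hu, c, hc', rfl⟩ := B.mem_F1_code hx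
    obtain ⟨-, h1⟩ := ht u (by omega)
    obtain ⟨-, h2⟩ := B.tq_acts j u (by omega)
    rw [B.qU hu] at h1 h2
    set a := B.q (qWord (wordData.getD j.1 []) u)
    have h3 : t⁻¹ * (B.tq j * B.U u * (B.tq j)⁻¹ * a⁻¹ * (t * B.U u * t⁻¹ * a⁻¹)⁻¹) * t⁻¹⁻¹ ∈
        Subgroup.zpowers S.z := by
      rw [z_pow_comm (Frame.commute_z htC).inv_left (mul_mem h2 (inv_mem h1))]
      exact mul_mem h2 (inv_mem h1)
    show t⁻¹ * B.tq j * (c * B.U u) * (t⁻¹ * B.tq j)⁻¹ ∈ B.X.F1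
    rw [show t⁻¹ * B.tq j * (c * B.U u) * (t⁻¹ * B.tq j)⁻¹ = (t⁻¹ * (B.tq j * c * (B.tq j)⁻¹) * t⁻¹⁻¹) *
      (t⁻¹ * (B.tq j * B.U u * (B.tq j)⁻¹ * a⁻¹ * (t * B.U u * t⁻¹ * a⁻¹)⁻¹) * t⁻¹⁻¹) * B.U u by group,
      z_pow_comm (Frame.commute_z (B.tq_C j)) hc', z_pow_comm (Frame.commute_z htC).inv_left hc']
    exact mul_mem (mul_mem (B.zpowers_le_F1 hc') (B.zpowers_le_F1 h3)) (B.U_mem u)
  rw [show h'⁻¹ * B.tq j = (t⁻¹ * h')⁻¹ * (t⁻¹ * B.tq j) by group]
  exact mul_mem (inv_mem haV) hfix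

theorem pt77_inj {i j : Fin 77} (h : B.pt77 i = B.pt77 j) : i = j := by
  have ha : (B.tq j)⁻¹ * B.tq i ∈ B.NV := QuotientGroup.eq.1 h.symm
  have hn : (B.tq j)⁻¹ * B.tq i ∈ Subgroup.normalizer (B.X.F1 : Set G) :=
    (B.norm_eq ▸ Subgroup.mem_inf.2 ⟨mul_mem (inv_mem (S.C_le_H0 (B.tq_C j))) (S.C_le_H0 (B.tq_C i)), ha⟩ :
      _ ∈ S.H0 ⊓ Subgroup.normalizer (B.X.F1 : Set G)).2
  exact B.reps_sep (B.tq_acts i) (B.tq_acts j) (B.tq_C j) (one_mem _) hn (by group)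

theorem pt77_zero : B.pt77 0 = B.base := by
  refine QuotientGroup.eq.2 (mul_mem ?_ (one_mem _))
  refine inv_mem ?_
  exact (B.norm_eq.symm ▸ Subgroup.mem_inf.2 ⟨S.C_le_H0 (B.tq_C 0), B.word_zero_norm (B.tq_C 0) (B.tq_acts 0)⟩ :
    B.tq 0 ∈ S.H0 ⊓ Subgroup.normalizer (B.V : Set G)).2

theorem pt77_ne_base {j : Fin 77} (hj : j.1 ≠ 0) : B.pt77 j ≠ B.base := fun e =>
  hj (congrArg Fin.val (B.pt77_inj (e.trans B.pt77_zero.symm)))

theorem z_mem_pt77 (j : Fin 77) : S.z ∈ B.Yq (B.pt77 j) := by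
  refine B.mem_Y_mk.2 ?_
  rw [show (B.tq j)⁻¹ * S.z * B.tq j = (B.tq j)⁻¹ * S.z * (B.tq j)⁻¹⁻¹ by rw [inv_inv],
    z_pow_comm (Frame.commute_z (B.tq_C j)).inv_left (Subgroup.mem_zpowers _)]
  exact B.z_mem_V

theorem mCW_lt' {w : ℕ} (hw : w < 64) : mCW w < 64 := by
  have h := forallLt_elim mCW_lt hw
  rwa [Nat.blt_eq] at h

theorem W_gen_two {w : ℕ} (hw : w < 64) :
    ∃ c ∈ Subgroup.zpowers S.z, B.cc * B.W w * B.cc⁻¹ = c * B.W (mCW w) := by
  have hL := (B.mem_L.1 B.cc_L).2.2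
  obtain ⟨w', hw', c, hc, e⟩ := B.mem_F2_code ((Subgroup.mem_normalizer_iff.1 hL _).1 (B.W_mem w))
  refine ⟨c, hc, ?_⟩
  have hlt : mCW w < 64 := mCW_lt' hw
  suffices heq : w' = mCW w by rw [e, heq]
  have hsame : pairMask w' = pairMask (mCW w) := by
    refine Nat.eq_of_testBit_eq fun u => ?_
    rw [Bool.eq_iff_iff, pairMask, pairMask, CfsgLib.Sporadic.testBit_maskLt, CfsgLib.Sporadic.testBit_maskLt]
    refine and_congr_right fun hu => ?_
    obtain ⟨hul, hUc⟩ := B.gen_U (g := 2) hu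
    have hg : B.gen 2 = B.cc := rfl
    rw [hg] at hUc
    have hpair : pairB (uGen 2 u) (mCW w) = pairB u w :=
      Nat.eq_of_beq_eq_true (forallLt_elim (forallLt_elim mCW_pair hw) hu)
    have key : pairB (uGen 2 u) w' = 0 ↔ pairB u w = 0 := by
      rw [← B.pair_zero_iff hul hw', ← B.pair_zero_iff hu hw, ← LargeData.commute_conj_iff' (g := B.cc)
        (a := B.U u) (b := B.W w), hUc, e]
      have hc' : Commute c (B.U (uGen 2 u)) :=
        (Frame.commute_z_zpowers (S := S) (S.hE.commute_z (B.X.F1_le_E (B.U_mem _))) hc).symm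
      exact ⟨fun h => hc'.symm.mul_right h, fun h => by
        have := (hc'.inv_left.symm).mul_right h
        rwa [inv_mul_cancel_left] at this⟩
    simp only [Bool.not_eq_true', ← Bool.not_eq_true, Nat.beq_eq, hpair]
    exact not_congr key
  have h := forallLt_elim (forallLt_elim pairMask_inj hw') hlt
  rw [hsame, Nat.beq_refl, Bool.not_true, Bool.or_false, Nat.beq_eq] at h
  exact h

theorem exists_actQ {g : ℕ} (hg : g < 7) : ∃ x ∈ S.H0 ⊓ B.NV, Commute x S.z ∧ ∀ m < 4096, actQ g m < 4096 ∧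
    x * B.q m * x⁻¹ * (B.q (actQ g m))⁻¹ ∈ Subgroup.zpowers S.z := by
  by_cases h3 : g < 3
  · refine ⟨B.gen g, Subgroup.mem_inf.2 ⟨S.C_le_H0 (B.gen_mem g), B.gen_norm g⟩, Frame.commute_z (B.gen_mem g),
      fun m hm => ?_⟩
    obtain ⟨hu, hU⟩ := B.gen_U (g := g) (show m % 64 < 64 from Nat.mod_lt _ (by norm_num))
    have hw : m / 64 < 64 := by omega
    obtain ⟨c, hc, v, hv, hW, ev⟩ : ∃ c ∈ Subgroup.zpowers S.z, ∃ v < 64,
        B.gen g * B.W (m / 64) * (B.gen g)⁻¹ = c * B.W v ∧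
        v = (if g < 2 then uGen g (m / 64) else mCW (m / 64)) := by
      interval_cases g
      · exact ⟨1, one_mem _, mA (m / 64), (B.a_acts _ hw).1, by rw [one_mul]; exact (B.a_acts _ hw).2.2, rfl⟩
      · exact ⟨1, one_mem _, mB (m / 64), (B.b_acts _ hw).1, by rw [one_mul]; exact (B.b_acts _ hw).2.2, rfl⟩
      · obtain ⟨c, hc, e⟩ := B.W_gen_two hw
        exact ⟨c, hc, mCW (m / 64), mCW_lt' hw, e, rfl⟩
    rw [actQ, if_pos h3, ← ev]
    refine ⟨by omega, ?_⟩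
    rw [B.q_mk hu, B.q_split]
    have hcU : Commute c (B.U (uGen g (m % 64))) :=
      (Frame.commute_z_zpowers (S := S) (S.hE.commute_z (B.X.F1_le_E (B.U_mem _))) hc).symm
    rw [show B.gen g * (B.U (m % 64) * B.W (m / 64)) * (B.gen g)⁻¹ =
      (B.gen g * B.U (m % 64) * (B.gen g)⁻¹) * (B.gen g * B.W (m / 64) * (B.gen g)⁻¹) by group, hU, hW,
      show B.U (uGen g (m % 64)) * (c * B.W v) = B.U (uGen g (m % 64)) * c * B.W v by group, ← hcU.eq,
      show c * B.U (uGen g (m % 64)) * B.W v * (B.U (uGen g (m % 64)) * B.W v)⁻¹ = c by group]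
    exact hc
  · have he : 2 ^ (g - 3) * 128 < 2048 := by
      have : 2 ^ (g - 3) ≤ 2 ^ 3 := Nat.pow_le_pow_right (by norm_num) (by omega)
      omega
    refine ⟨B.vel (2 ^ (g - 3) * 128), Subgroup.mem_inf.2 ⟨B.V_le_H0 (B.vel_mem he),
      Subgroup.le_normalizer (B.vel_mem he)⟩, mem_centralizer_singleton_iff'.1 (S.hH0 (B.V_le_H0 (B.vel_mem he))),
      fun m hm => ?_⟩
    rw [actQ, if_neg h3]
    have := B.vel_conj_q he hm
    rwa [show 2 ^ (g - 3) * 128 / 128 = 2 ^ (g - 3) by omega] at this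

theorem pt77_orbit_root {j : Fin 77} (hj : j.1 ≠ 0) :
    ∃ r : Fin 77, r.1 = rootOf j.1 ∧ B.pt77 j ∈ orbit ↥B.NV (B.pt77 r) := by
  suffices main : ∀ n : ℕ, ∀ i : Fin 77, i.1 ≠ 0 → anc n i.1 = rootOf i.1 →
      ∃ r : Fin 77, r.1 = rootOf i.1 ∧ B.pt77 i ∈ orbit ↥B.NV (B.pt77 r) by
    refine main 6 j hj ?_
    have h := forallLt_elim tree_depth j.2
    rw [Bool.or_eq_true, Nat.beq_eq, Nat.beq_eq] at h
    exact h.resolve_left hj
  intro n
  induction n with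
  | zero => exact fun i _ h => ⟨i, h, mem_orbit_self _⟩
  | succ n ih =>
    intro i hi h
    by_cases hr : i.1 = rootOf i.1
    · exact ⟨i, hr, mem_orbit_self _⟩
    have hs := forallLt_elim tree_step i.2
    simp only [Bool.or_eq_true, Nat.beq_eq, Bool.and_eq_true, Nat.blt_eq, Bool.not_eq_true', beq_iff_eq] at hs
    obtain ⟨⟨⟨⟨hg, hp⟩, hp0⟩, hl⟩, hall⟩ := hs.resolve_left (not_or.2 ⟨hi, hr⟩)
    set p : Fin 77 := ⟨treePar.getD i.1 0, hp⟩
    have hp0' : p.1 ≠ 0 := fun e => by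
      rw [show treePar.getD i.1 0 = 0 from e] at hp0
      simp at hp0
    have hroot : rootOf p.1 = rootOf i.1 := by unfold rootOf; rw [show isLarge p.1 = isLarge i.1 from hl]
    have hanc : ∀ m, anc (m + 1) i.1 = anc m p.1 := by
      intro m
      induction m with
      | zero =>
        show (if Nat.beq i.1 (rootOf i.1) then i.1 else treePar.getD i.1 0) = p.1
        rw [if_neg fun e => hr (Nat.eq_of_beq_eq_true e)]
      | succ m ihm =>
        show (if Nat.beq (anc (m + 1) i.1) (rootOf i.1) then anc (m + 1) i.1 else treePar.getD (anc (m + 1) i.1) 0) =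
          (if Nat.beq (anc m p.1) (rootOf p.1) then anc m p.1 else treePar.getD (anc m p.1) 0)
        rw [ihm, hroot]
    obtain ⟨r, hr', hmem⟩ := ih p hp0' (by rw [← hanc, hroot]; exact h)
    refine ⟨r, hr'.trans hroot, ?_⟩
    obtain ⟨x, hx, hxz, hxq⟩ := B.exists_actQ hg
    obtain ⟨hx0, hxN⟩ := Subgroup.mem_inf.1 hx
    have hmove : x • B.pt77 p = B.pt77 i := B.smul_pt77_of hx0 fun u hu => by
      obtain ⟨h1, h2⟩ := hxq _ (B.tq_acts p u (by omega)).1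
      exact (B.mem_Fj_iff i h1 (B.conj_code hxz hu h2)).2 ((forallLt_iff _ _).1 hall u hu)
    rw [← hmove]
    exact (MulAction.orbit_eq_iff.2 hmem) ▸ ⟨⟨x, hxN⟩, rfl⟩

/-- The root of one of the two orbits. -/
def rootFin (b : Bool) : Fin 77 := ⟨bif b then rootLarge else rootSmall, by cases b <;> decide⟩

theorem inc_count (b : Bool) :
    Nat.card {j : Fin 77 // j.1 ≠ 0 ∧ isLarge j.1 = b} = if b then 60 else 16 := by
  have hl := large_count
  have hs := small_count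
  cases b
  · rw [card_fin_subtype (fun j : Fin 77 => j.1 ≠ 0 ∧ isLarge j.1 = false) (fun j => !Nat.beq j 0 && !isLarge j)
      fun j => by rw [Bool.and_eq_true, Bool.not_eq_true', Bool.not_eq_true', beq_false_iff]]
    revert hs
    generalize (countLt 77 fun j => !Nat.beq j 0 && !isLarge j) = X
    exact fun hs => Nat.eq_of_beq_eq_true hs
  · rw [card_fin_subtype (fun j : Fin 77 => j.1 ≠ 0 ∧ isLarge j.1 = true) (fun j => !Nat.beq j 0 && isLarge j)
      fun j => by rw [Bool.and_eq_true, Bool.not_eq_true', beq_false_iff]]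
    revert hl
    generalize (countLt 77 fun j => !Nat.beq j 0 && isLarge j) = X
    exact fun hl => Nat.eq_of_beq_eq_true hl

/-- One of the two incidence orbits. -/
noncomputable def incOrbit (b : Bool) : Set B.Om := orbit ↥B.NV (B.pt77 (rootFin b))

theorem pt77_mem_incOrbit {j : Fin 77} (hj : j.1 ≠ 0) : B.pt77 j ∈ B.incOrbit (isLarge j.1) := by
  obtain ⟨r, hr, h⟩ := B.pt77_orbit_root hj
  have key : ∀ c : Bool, (if c = true then rootLarge else rootSmall) = (rootFin c).1 := by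
    intro c; cases c <;> rfl
  unfold rootOf at hr
  have e : r = rootFin (isLarge j.1) := Fin.ext (hr.trans (key _))
  rw [e] at h
  exact h

/-- A coset whose conjugate meets `V` in a conjugate of `z`. -/
theorem incident_cases (hJ : IsOfJankoFourType G) {q : B.Om} {v : G} (hv : v ∈ B.V) (hz : IsConj S.z v)
    (hvY : v ∈ B.Yq q) : q = B.base ∨ ∃ b, q ∈ B.incOrbit b := by
  obtain ⟨g, hg⟩ := isConj_iff.1 hz
  obtain ⟨n, hn, e⟩ := B.fuse hJ (g := g) (hg ▸ hv)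
  rw [hg] at e
  have hz' : S.z ∈ B.Yq (n⁻¹ • q) := by
    rw [show S.z = n⁻¹ * v * n⁻¹⁻¹ by rw [← e]; group]
    exact B.mem_Y_smul.2 hvY
  obtain ⟨j, hj⟩ := B.exists_pt77 hJ hz'
  have hq : q = n • B.pt77 j := by rw [← hj, smul_inv_smul]
  by_cases hj0 : j.1 = 0
  · refine Or.inl ?_
    rw [hq, show j = 0 from Fin.ext hj0, B.pt77_zero]
    exact mem_stabilizer_iff.1 (B.NV_le_stab_base hn)
  · refine Or.inr ⟨isLarge j.1, ?_⟩
    rw [hq, incOrbit, ← MulAction.orbit_eq_iff.2 (B.pt77_mem_incOrbit hj0)]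
    exact ⟨⟨n, hn⟩, rfl⟩

theorem incOrbit_root (b : Bool) : ∃ j : Fin 77, j.1 ≠ 0 ∧ isLarge j.1 = b ∧ B.incOrbit b = orbit ↥B.NV (B.pt77 j) := by
  cases b
  · exact ⟨⟨rootSmall, by decide⟩, by decide, by decide +kernel, rfl⟩
  · exact ⟨⟨rootLarge, by decide⟩, by decide, by decide +kernel, rfl⟩

theorem incOrbit_values (hG : ¬ IsMulCommutative G) (hJ : IsOfJankoFourType G) {b : Bool} {q : B.Om}
    (hq : q ∈ B.incOrbit b) : (B.meetCard q = 8 ↔ b = true) ∧ B.meetZ q = (if b then 7 else 1) ∧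
      B.clD S.z q = (if b then 427 else 91) ∧ B.clD B.duadRep q = (if b then 84 else 36) ∧ q ≠ B.base := by
  obtain ⟨j, hj, hl, e⟩ := B.incOrbit_root b
  rw [e] at hq
  obtain ⟨n, rfl⟩ := hq
  show (B.meetCard ((n : G) • B.pt77 j) = 8 ↔ _) ∧ B.meetZ ((n : G) • B.pt77 j) = _ ∧
    B.clD _ ((n : G) • B.pt77 j) = _ ∧ B.clD _ ((n : G) • B.pt77 j) = _ ∧ (n : G) • B.pt77 j ≠ _
  obtain ⟨h1, h2⟩ := B.meet_smul n.2 (B.pt77 j)
  obtain ⟨h3, h4⟩ := B.pt77_meet hG hJ hj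
  obtain ⟨h5, h6⟩ := B.pt77_clD hG hJ hj
  rw [h1, h2, B.clD_smul _ n.2, B.clD_smul _ n.2, h3, h4, h5, h6, hl]
  refine ⟨Iff.rfl, rfl, rfl, rfl, fun he => B.pt77_ne_base hj ?_⟩
  rw [← smul_inv_smul (n : G) B.base, smul_left_cancel_iff] at he
  rw [he]
  exact mem_stabilizer_iff.1 (inv_mem (B.NV_le_stab_base n.2))

theorem incOrbit_card (hG : ¬ IsMulCommutative G) (hJ : IsOfJankoFourType G) (b : Bool) :
    (B.incOrbit b).ncard = if b then 15180 else 28336 := by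
  classical
  have hmem : ∀ {a : G}, a ∈ B.NV → ∀ q : B.Om, a • q ∈ B.incOrbit b ↔ q ∈ B.incOrbit b := fun {a} ha q => by
    have h : a • q = (⟨a, ha⟩ : ↥B.NV) • q := rfl
    rw [h, incOrbit, ← MulAction.orbit_eq_iff, ← MulAction.orbit_eq_iff, MulAction.orbit_smul]
  have e : Nat.card (Σ q : ↥(B.incOrbit b), {v : ↥B.V // IsConj S.z (v : G) ∧ (v : G) ∈ B.Yq q.1}) =
      Nat.card (Σ v : {v : ↥B.V // IsConj S.z (v : G)}, {q : B.Om // q ∈ B.incOrbit b ∧ (v.1 : G) ∈ B.Yq q}) :=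
    Nat.card_congr
      { toFun := fun p => ⟨⟨p.2.1, p.2.2.1⟩, p.1.1, p.1.2, p.2.2.2⟩
        invFun := fun p => ⟨⟨p.2.1, p.2.2.1⟩, p.1.1, p.1.2, p.2.2.2⟩
        left_inv := fun _ => rfl
        right_inv := fun _ => rfl }
  have hfib : ∀ v : {v : ↥B.V // IsConj S.z (v : G)},
      Nat.card {q : B.Om // q ∈ B.incOrbit b ∧ (v.1 : G) ∈ B.Yq q} = if b then 60 else 16 := by
    intro v
    obtain ⟨g, hg⟩ := isConj_iff.1 v.2
    obtain ⟨n, hn, en⟩ := B.fuse hJ (g := g) (hg ▸ v.1.2)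
    rw [hg] at en
    have e1 : Nat.card {q : B.Om // q ∈ B.incOrbit b ∧ S.z ∈ B.Yq q} =
        Nat.card {q : B.Om // q ∈ B.incOrbit b ∧ (v.1 : G) ∈ B.Yq q} := by
      refine Nat.card_congr ((MulAction.toPerm n).subtypeEquiv fun q => ?_)
      show _ ↔ n • q ∈ B.incOrbit b ∧ _ ∈ B.Yq (n • q)
      rw [hmem hn, ← en, B.mem_Y_smul]
    rw [← e1, ← inc_count b]
    have hiff : ∀ j : Fin 77, j.1 ≠ 0 → (B.pt77 j ∈ B.incOrbit b ↔ isLarge j.1 = b) := fun j hj => by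
      constructor
      · intro h
        have h1 := (B.incOrbit_values hG hJ h).1
        rw [(B.pt77_meet hG hJ hj).1] at h1
        exact Bool.eq_iff_iff.2 h1
      · rintro rfl; exact B.pt77_mem_incOrbit hj
    refine (Nat.card_congr (Equiv.ofBijective (fun j => ⟨B.pt77 j.1, (hiff j.1 j.2.1).2 j.2.2, B.z_mem_pt77 j.1⟩)
      ⟨fun i j h => Subtype.ext (B.pt77_inj (congrArg Subtype.val h)), fun q => ?_⟩)).symm
    obtain ⟨j, hj⟩ := B.exists_pt77 hJ q.2.2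
    have hj0 : j.1 ≠ 0 := fun e0 => (B.incOrbit_values hG hJ q.2.1).2.2.2.2 (by
      rw [hj, show j = 0 from Fin.ext e0, B.pt77_zero])
    exact ⟨⟨j, hj0, (hiff j hj0).1 (hj ▸ q.2.1)⟩, Subtype.ext hj.symm⟩
  have hval : ∀ q : ↥(B.incOrbit b),
      Nat.card {v : ↥B.V // IsConj S.z (v : G) ∧ (v : G) ∈ B.Yq q.1} = if b then 7 else 1 :=
    fun q => (B.incOrbit_values hG hJ q.2).2.1
  have hL := card_sigma_const (fun q : ↥(B.incOrbit b) =>
    {v : ↥B.V // IsConj S.z (v : G) ∧ (v : G) ∈ B.Yq q.1}) _ hval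
  have hR := card_sigma_const (fun v : {v : ↥B.V // IsConj S.z (v : G)} =>
    {q : B.Om // q ∈ B.incOrbit b ∧ (v.1 : G) ∈ B.Yq q}) _ hfib
  have h := hL.symm.trans (e.trans hR)
  rw [(B.card_cl_V hG hJ).1, Nat.card_coe_set_eq] at h
  generalize (B.incOrbit b).ncard = X at h ⊢
  cases b <;> simp only [Bool.false_eq_true, if_false, if_true] at h ⊢ <;> omega

end HexBase

end CfsgLib.JankoFour
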