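import Cfsg.Agent.Lib.JankoFourOrder.RankSeven.M24Count
import Cfsg.Agent.Lib.JankoFourOrder.RankSeven.Arith
import Cfsg.Agent.Lib.JankoFourOrder.Coord.Model
import Cfsg.Agent.Lib.JankoFourOrder.Coord.Types
import Cfsg.Agent.Lib.JankoFourFive.Base

/-!
# The involutions of `N(V)` by class (owner: helper14)

* `card_zset_NV`, `card_tset_NV`: 1204027 and 2295492.
* `card_NV`
-/

set_option autoImplicit false
set_option linter.unusedSectionVars false
set_option maxRecDepth 100000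

namespace CfsgLib.JankoFour

open Cfsg CfsgLib.ThreeTrans CfsgLib.JankoFourHexad CfsgLib.JankoFourOrder CfsgLib.JankoFour.RankSeven
open CfsgLib.Sporadic (Rep forallLt forallLt_elim countLt countLt_eq ix ix_lt pget pone isAut exists_M24_elt)

namespace RankSeven

/-- The fixed codes of `W w` in or outside the commutator space. -/
noncomputable def fixedIn (w : ℕ) (b : Bool) : ℕ :=
  countLt 2048 fun n => Nat.beq (tMap w n) n && (Nat.testBit (iMask w) n == b)

theorem fixedIn_one : (Nat.beq (fixedIn 1 true) 16 && Nat.beq (fixedIn 1 false) 112) = true := by decide +kernel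

theorem fixedIn_free : (Nat.beq (fixedIn 22 true) 32 && Nat.beq (fixedIn 22 false) 32) = true := by decide +kernel

theorem fibre_one : (Nat.beq (countLt 2048 zCode) 1771 && Nat.beq (countLt 2048 fun n => Nat.testBit dMask n) 276) =
    true := by decide +kernel

/-- Counting a subtype of `Fin n` by a Boolean test. -/
theorem card_fin_subtype {n : ℕ} (P : Fin n → Prop) (f : ℕ → Bool) (h : ∀ i : Fin n, P i ↔ f i = true) :
    Nat.card {i : Fin n // P i} = countLt n f := by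
  rw [countLt_eq, ← Nat.card_eq_finsetCard]
  exact Nat.card_congr
    { toFun := fun i => ⟨i.1.1, Finset.mem_filter.2 ⟨Finset.mem_range.2 i.1.2, (h i.1).1 i.2⟩⟩
      invFun := fun i => ⟨⟨i.1, Finset.mem_range.1 (Finset.mem_filter.1 i.2).1⟩,
        (h ⟨i.1, Finset.mem_range.1 (Finset.mem_filter.1 i.2).1⟩).2 (Finset.mem_filter.1 i.2).2⟩
      left_inv := fun _ => rfl
      right_inv := fun _ => rfl }

end RankSeven

variable {G : Type*} [Group G] [Finite G]

namespace HexBase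

variable {S : Setting G} (B : HexBase S)

namespace NVModel

variable {B} (M : B.NVModel)

/-- The coordinates of an element of `N(V)`. -/
noncomputable def coord : Fin 2048 × ↥M24 ≃ ↥B.NV :=
  Equiv.ofBijective (fun x => ⟨B.vel x.1.1 * M.k x.2, mul_mem (Subgroup.le_normalizer (B.vel_mem x.1.2)) (M.hk x.2)⟩)
    ⟨fun x y h => by
      obtain ⟨h1, h2⟩ := M.hinj _ _ _ _ x.1.2 y.1.2 (congrArg Subtype.val h)
      exact Prod.ext (Fin.ext h1) h2,
    fun g => by
      obtain ⟨n, hn, σ, e⟩ := M.hdec g g.2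
      exact ⟨(⟨n, hn⟩, σ), Subtype.ext e.symm⟩⟩

include M in
theorem card_NV : Nat.card ↥B.NV = ordN := by
  rw [← Nat.card_congr M.coord, Nat.card_prod, Nat.card_fin, CfsgLib.Sporadic.M24_card]

theorem vel_k_mul {n : ℕ} (hn : n < 2048) (σ : ↥M24) :
    B.vel n * M.k σ * (B.vel n * M.k σ) = B.vel (n ^^^ B.act (M.k σ) n) * M.k (σ * σ) := by
  rw [map_mul, show B.vel (n ^^^ B.act (M.k σ) n) = B.vel n * B.vel (B.act (M.k σ) n) from (B.vel_xor _ _).symm,
    B.vel_act (M.hk σ) hn]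
  group

theorem sq_eq_one_iff {n : ℕ} (hn : n < 2048) (σ : ↥M24) :
    B.vel n * M.k σ * (B.vel n * M.k σ) = 1 ↔ σ * σ = 1 ∧ B.act (M.k σ) n = n := by
  rw [M.vel_k_mul hn]
  constructor
  · intro h
    obtain ⟨h1, h2⟩ := M.hinj _ 0 _ 1 (Nat.xor_lt_two_pow (n := 11) hn (B.act_lt _ _)) (by norm_num)
      (h.trans (by rw [B.vel_zero, map_one, mul_one]))
    exact ⟨h2, (Nat.xor_eq_zero_iff.1 h1).symm⟩
  · rintro ⟨h1, h2⟩
    rw [h1, h2, Nat.xor_self, B.vel_zero, map_one, one_mul]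

/-- The number of lifts of `σ` with a given property. -/
noncomputable def fib (P : G → Prop) (σ : ↥M24) : ℕ := Nat.card {n : Fin 2048 // P (B.vel n.1 * M.k σ)}

variable (P : G → Prop)

theorem sum_fib [Fintype ↥M24] :
    Nat.card {x : ↥B.NV // P (x : G)} = ∑ σ : ↥M24, M.fib P σ := by
  classical
  simp only [fib]
  rw [← Nat.card_sigma]
  refine Nat.card_congr ((M.coord.subtypeEquiv (q := fun x : ↥B.NV => P (x : G)) (fun _ => Iff.rfl)).symm.trans ?_)
  exact
    { toFun := fun p => ⟨p.1.2, p.1.1, p.2⟩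
      invFun := fun q => ⟨(q.2.1, q.1), q.2.2⟩
      left_inv := fun _ => rfl
      right_inv := fun _ => rfl }

theorem fib_conj (hP : ∀ g ∈ B.NV, ∀ x, P (g * x * g⁻¹) ↔ P x) (σ ρ : ↥M24) :
    M.fib P (ρ * σ * ρ⁻¹) = M.fib P σ := by
  have key : ∀ (σ ρ : ↥M24) {n : ℕ}, n < 2048 → P (B.vel n * M.k σ) →
      P (B.vel (B.act (M.k ρ) n) * M.k (ρ * σ * ρ⁻¹)) := fun σ ρ {n} hn h => by
    rw [B.vel_act (M.hk ρ) hn, map_mul, map_mul, map_inv]
    have := (hP _ (M.hk ρ) (B.vel n * M.k σ)).2 h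
    rwa [show M.k ρ * B.vel n * (M.k ρ)⁻¹ * (M.k ρ * M.k σ * (M.k ρ)⁻¹) = M.k ρ * (B.vel n * M.k σ) * (M.k ρ)⁻¹ by
      group]
  have hle : ∀ σ ρ : ↥M24, M.fib P σ ≤ M.fib P (ρ * σ * ρ⁻¹) := fun σ ρ =>
    Nat.card_le_card_of_injective
      (fun n => (⟨⟨B.act (M.k ρ) n.1.1, B.act_lt _ _⟩, key σ ρ n.1.2 n.2⟩ :
        {m : Fin 2048 // P (B.vel m.1 * M.k (ρ * σ * ρ⁻¹))}))
      fun a b h => Subtype.ext (Fin.ext (B.act_inj (M.hk ρ) a.1.2 b.1.2 (congrArg (fun m => m.1.1) h)))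
  refine le_antisymm ?_ (hle σ ρ)
  have := hle (ρ * σ * ρ⁻¹) ρ⁻¹
  rwa [inv_inv, show ρ⁻¹ * (ρ * σ * ρ⁻¹) * ρ = σ by group] at this

include M in
theorem isInv_wPerm {w m : ℕ} (hw : w < 64) (hf : fixCount (wPerm w) = m) (hm : m ≠ 24) {σ : ↥M24}
    (hr : Rep σ.1 (wPerm w)) : IsInv m σ := by
  haveI : Fact (Nat.Prime 2) := ⟨Nat.prime_two⟩
  refine ⟨orderOf_eq_prime ?_ ?_, by rw [← hf, fixCount_rep hr]⟩
  · have h : (B.vel 0 * M.k σ) * (B.vel 0 * M.k σ) = 1 := by
      rw [B.vel_zero, one_mul, M.hW w hw σ hr, B.W_sq]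
    rw [pow_two]
    exact ((M.sq_eq_one_iff (by norm_num) σ).1 h).1
  · intro e
    subst e
    rw [fixCount_rep hr] at hf
    exact hm (hf.symm.trans (by simp [GolayPt]))

include M in
theorem exists_conj_wPerm {w m : ℕ} (hw : w = 1 ∧ m = 8 ∨ w = 22 ∧ m = 0) {σ : ↥M24} (hσ : IsInv m σ) :
    ∃ s ρ : ↥M24, Rep s.1 (wPerm w) ∧ ρ * s * ρ⁻¹ = σ := by
  have hw64 : w < 64 := by omega
  have ha := forallLt_elim wPerm_ok hw64
  rw [Bool.and_eq_true] at ha
  obtain ⟨s, hs⟩ := exists_M24_elt ha.1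
  have hfix : fixCount (wPerm w) = m := by
    have h := wPerm_fix
    simp only [Bool.and_eq_true, Nat.beq_eq] at h
    rcases hw with ⟨rfl, rfl⟩ | ⟨rfl, rfl⟩
    exacts [h.1.1, h.1.2]
  have hs' := M.isInv_wPerm hw64 hfix (by omega) hs
  obtain ⟨-, -, -, hconj⟩ := CfsgLib.ThreeTrans.M24Inv.main
  have hiff : (∀ p, s.1 p ≠ p) ↔ ∀ p, σ.1 p ≠ p := by
    have e : ∀ {g : ↥M24}, IsInv m g → ((∀ p, g.1 p ≠ p) ↔ m = 0) := fun {g} hg => by
      rw [← hg.2, Finset.card_eq_zero, Finset.filter_eq_empty_iff]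
      exact ⟨fun h p _ => h p, fun h p => h (Finset.mem_univ p)⟩
    rw [e hs', e hσ]
  obtain ⟨k, hk, e⟩ := hconj s.1 s.2 σ.1 σ.2 (by rw [Subgroup.orderOf_coe]; exact hs'.1)
    (by rw [Subgroup.orderOf_coe]; exact hσ.1) hiff
  exact ⟨s, ⟨k, hk⟩, hs, Subtype.ext e⟩

theorem ne_one_of_isInv {m n : ℕ} (hn : n < 2048) {σ : ↥M24} (hσ : IsInv m σ) : B.vel n * M.k σ ≠ 1 := fun e => by
  have h := (M.hinj n 0 σ 1 hn (by norm_num) (e.trans (by rw [B.vel_zero, map_one, mul_one]))).2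
  rw [h] at hσ
  have := hσ.1
  rw [orderOf_one] at this
  norm_num at this

/-- The count of a class of involutions in `N(V)`, from three fibres. -/
theorem count_class (hP : ∀ g ∈ B.NV, ∀ x, P (g * x * g⁻¹) ↔ P x) (hsq : ∀ x, P x → x * x = 1) {a b c : ℕ}
    (h1 : M.fib P 1 = a) (h8 : ∀ s : ↥M24, Rep s.1 (wPerm 1) → M.fib P s = b)
    (h0 : ∀ s : ↥M24, Rep s.1 (wPerm 22) → M.fib P s = c) :
    Nat.card {x : ↥B.NV // P (x : G)} = a + 11385 * b + 31878 * c := by
  classical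
  haveI : Fintype ↥M24 := Fintype.ofFinite _
  haveI : Fact (Nat.Prime 2) := ⟨Nat.prime_two⟩
  have hval : ∀ σ : ↥M24, M.fib P σ =
      (if σ = 1 then a else 0) + (if IsInv 8 σ then b else 0) + (if IsInv 0 σ then c else 0) := by
    intro σ
    by_cases hσ : σ = 1
    · subst hσ
      have hn : ∀ m, ¬ IsInv m (1 : ↥M24) := fun m h => by
        have := h.1
        rw [orderOf_one] at this
        norm_num at this
      rw [if_pos rfl, if_neg (hn 8), if_neg (hn 0), h1]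
      rfl
    by_cases h2 : σ * σ = 1
    · rcases isInv_cases (g := σ) (orderOf_eq_prime (by rw [pow_two, h2]) hσ) with h | h
      · obtain ⟨s, ρ, hs, e⟩ := M.exists_conj_wPerm (w := 1) (Or.inl ⟨rfl, rfl⟩) h
        rw [if_neg hσ, if_pos h, if_neg fun h' => absurd (h.2.symm.trans h'.2) (by norm_num), ← e, M.fib_conj P hP,
          h8 s hs]
        omega
      · obtain ⟨s, ρ, hs, e⟩ := M.exists_conj_wPerm (w := 22) (Or.inr ⟨rfl, rfl⟩) h
        rw [if_neg hσ, if_neg fun h' => absurd (h.2.symm.trans h'.2) (by norm_num), if_pos h, ← e, M.fib_conj P hP,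
          h0 s hs]
        omega
    · have hn : ∀ m, ¬ IsInv m σ := fun m h => h2 (by rw [← pow_two, ← h.1, pow_orderOf_eq_one])
      rw [if_neg hσ, if_neg (hn 8), if_neg (hn 0)]
      haveI : IsEmpty {n : Fin 2048 // P (B.vel n.1 * M.k σ)} :=
        ⟨fun n => h2 ((M.sq_eq_one_iff n.1.2 σ).1 (hsq _ n.2)).1⟩
      exact Nat.card_of_isEmpty
  rw [M.sum_fib P, Finset.sum_congr rfl fun σ _ => hval σ, Finset.sum_add_distrib, Finset.sum_add_distrib,
    Finset.sum_ite_eq' Finset.univ (1 : ↥M24), if_pos (Finset.mem_univ _), ← Finset.sum_filter, ← Finset.sum_filter,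
    Finset.sum_const, Finset.sum_const, smul_eq_mul, smul_eq_mul, ← Fintype.card_subtype, ← Fintype.card_subtype,
    ← Nat.card_eq_fintype_card, ← Nat.card_eq_fintype_card, card_eight, card_free]

theorem fibre_rep [IsSimpleGroup G] (hG : ¬ IsMulCommutative G) (hJ : IsOfJankoFourType G) {w : ℕ}
    (hw : w = 1 ∨ w = 22) {s : ↥M24} (hs : Rep s.1 (wPerm w)) :
    M.fib (IsConj S.z) s = fixedIn w (Nat.beq w 1) ∧ M.fib (IsConj B.duadRep) s = fixedIn w (!Nat.beq w 1) := by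
  have hw64 : w < 64 := by omega
  have hk : M.k s = B.W w := M.hW w hw64 s hs
  have hf : fixCount (wPerm w) ≠ 24 ∧ ∀ {n}, n < 2048 → tMap w n = n →
      (IsConj S.z (B.vel n * B.W w) ↔ Nat.testBit (iMask w) n = Nat.beq w 1) := by
    have h := wPerm_fix
    simp only [Bool.and_eq_true, Nat.beq_eq] at h
    rcases hw with rfl | rfl
    · exact ⟨by rw [h.1.1]; norm_num, fun hn hf => B.type_eight hG hJ M hn hf⟩
    · exact ⟨by rw [h.1.2]; norm_num, fun hn hf => B.type_free hG hJ hn hf⟩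
  have hne := M.isInv_wPerm hw64 rfl hf.1 hs
  have hsqz : ∀ {x : G}, IsConj S.z x → x * x = 1 := fun {x} h => by
    obtain ⟨g, rfl⟩ := isConj_iff.1 h
    rw [show g * S.z * g⁻¹ * (g * S.z * g⁻¹) = g * (S.z * S.z) * g⁻¹ by group, S.hE.mul_self_z, mul_one, mul_inv_cancel]
  obtain ⟨ht1, htz⟩ := B.duadRep_facts hG hJ
  have ht2 : B.duadRep * B.duadRep = 1 := by rw [← pow_two]; exact B.V_elementary.2 _ B.duadRep_mem
  have hsqt : ∀ {x : G}, IsConj B.duadRep x → x * x = 1 := fun {x} h => by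
    obtain ⟨g, rfl⟩ := isConj_iff.1 h
    rw [show g * B.duadRep * g⁻¹ * (g * B.duadRep * g⁻¹) = g * (B.duadRep * B.duadRep) * g⁻¹ by group, ht2, mul_one,
      mul_inv_cancel]
  have hfix : ∀ {n}, n < 2048 → (B.vel n * B.W w * (B.vel n * B.W w) = 1 ↔ tMap w n = n) := fun {n} hn => by
    rw [← hk, M.sq_eq_one_iff hn, hk, B.act_W hw64 hn]
    exact and_iff_right (by rw [← pow_two, ← hne.1, pow_orderOf_eq_one])
  have key : ∀ (n : Fin 2048) (b : Bool), tMap w n.1 = n.1 ∧ Nat.testBit (iMask w) n.1 = b ↔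
      (Nat.beq (tMap w n.1) n.1 && (Nat.testBit (iMask w) n.1 == b)) = true := fun n b => by
    rw [Bool.and_eq_true, Nat.beq_eq, beq_iff_eq]
  constructor
  · refine card_fin_subtype _ _ fun n => ?_
    rw [hk, ← key]
    exact ⟨fun h => ⟨(hfix n.2).1 (hsqz h), (hf.2 n.2 ((hfix n.2).1 (hsqz h))).1 h⟩,
      fun ⟨h1, h2⟩ => (hf.2 n.2 h1).2 h2⟩
  · refine card_fin_subtype _ _ fun n => ?_
    rw [hk, ← key]
    constructor
    · intro h
      have h1 := (hfix n.2).1 (hsqt h)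
      refine ⟨h1, ?_⟩
      have h2 : Nat.testBit (iMask w) n.1 ≠ Nat.beq w 1 := fun e => htz (((hf.2 n.2 h1).2 e).trans h.symm)
      revert h2
      cases Nat.testBit (iMask w) n.1 <;> cases Nat.beq w 1 <;> simp
    · rintro ⟨h1, h2⟩
      rcases B.two_classes hG hJ B.duadRep_mem ht1 htz ((hfix n.2).2 h1) (hk ▸ M.ne_one_of_isInv n.2 hne) with h | h
      · have := (hf.2 n.2 h1).1 h
        rw [h2] at this
        revert this
        cases Nat.beq w 1 <;> simp
      · exact h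

theorem fibre_id [IsSimpleGroup G] (hG : ¬ IsMulCommutative G) (hJ : IsOfJankoFourType G) :
    M.fib (IsConj S.z) 1 = 1771 ∧ M.fib (IsConj B.duadRep) 1 = 276 := by
  obtain ⟨-, hD, -⟩ := B.duads_spec hG hJ
  obtain ⟨ht1, htz⟩ := B.duadRep_facts hG hJ
  have h := fibre_one
  simp only [Bool.and_eq_true, Nat.beq_eq] at h
  obtain ⟨h1, h2⟩ := h
  rw [← h1, ← h2]
  constructor
  · refine card_fin_subtype _ _ fun n => ?_
    rw [map_one, mul_one, show zCode n.1 = zBit n.1 from rfl]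
    exact (B.zBit_iff hG hJ n.2).symm
  · refine card_fin_subtype _ _ fun n => ?_
    rw [map_one, mul_one, hD n.1 n.2]
    constructor
    · intro h
      refine ⟨fun e => ht1 ?_, fun hz => htz ((show IsConj S.z _ from hz).trans h.symm)⟩
      rw [e, B.vel_zero] at h
      obtain ⟨g, hg⟩ := isConj_iff.1 h
      rw [← conj_eq_one_iff (a := g), hg]
    · rintro ⟨h0, hz⟩
      exact (B.two_classes hG hJ B.duadRep_mem ht1 htz (B.vel_sq _)
        (fun e => h0 (B.vel_eq_one n.2 e))).resolve_left hz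

end NVModel

/-- The conjugates of `z` in `N(V)`. -/
theorem card_zset_NV [IsSimpleGroup G] (hG : ¬ IsMulCommutative G) (hJ : IsOfJankoFourType G) :
    Nat.card {x : ↥B.NV // IsConj S.z (x : G)} = 1204027 := by
  obtain ⟨M⟩ := B.exists_nvModel hG hJ
  have hz2 : S.z * S.z = 1 := S.hE.mul_self_z
  have h := fixedIn_one
  have h' := fixedIn_free
  simp only [Bool.and_eq_true, Nat.beq_eq] at h h'
  rw [M.count_class (IsConj S.z) (fun g _ x => ⟨fun h => h.trans (isConj_iff.2 ⟨g, rfl⟩).symm,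
    fun h => h.trans (isConj_iff.2 ⟨g, rfl⟩)⟩) (fun x hx => by
      obtain ⟨g, rfl⟩ := isConj_iff.1 hx
      rw [show g * S.z * g⁻¹ * (g * S.z * g⁻¹) = g * (S.z * S.z) * g⁻¹ by group, hz2, mul_one, mul_inv_cancel])
    (M.fibre_id hG hJ).1 (fun s hs => (M.fibre_rep hG hJ (Or.inl rfl) hs).1)
    (fun s hs => (M.fibre_rep hG hJ (Or.inr rfl) hs).1),
    show Nat.beq 1 1 = true from rfl, show Nat.beq 22 1 = false from rfl, h.1, h'.2]

/-- The conjugates of the second involution in `N(V)`. -/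
theorem card_tset_NV [IsSimpleGroup G] (hG : ¬ IsMulCommutative G) (hJ : IsOfJankoFourType G) :
    Nat.card {x : ↥B.NV // IsConj B.duadRep (x : G)} = 2295492 := by
  obtain ⟨M⟩ := B.exists_nvModel hG hJ
  have ht2 : B.duadRep * B.duadRep = 1 := by rw [← pow_two]; exact B.V_elementary.2 _ B.duadRep_mem
  have h := fixedIn_one
  have h' := fixedIn_free
  simp only [Bool.and_eq_true, Nat.beq_eq] at h h'
  rw [M.count_class (IsConj B.duadRep) (fun g _ x => ⟨fun h => h.trans (isConj_iff.2 ⟨g, rfl⟩).symm,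
    fun h => h.trans (isConj_iff.2 ⟨g, rfl⟩)⟩) (fun x hx => by
      obtain ⟨g, rfl⟩ := isConj_iff.1 hx
      rw [show g * B.duadRep * g⁻¹ * (g * B.duadRep * g⁻¹) = g * (B.duadRep * B.duadRep) * g⁻¹ by group, ht2, mul_one,
        mul_inv_cancel])
    (M.fibre_id hG hJ).2 (fun s hs => (M.fibre_rep hG hJ (Or.inl rfl) hs).2)
    (fun s hs => (M.fibre_rep hG hJ (Or.inr rfl) hs).2),
    show (!Nat.beq 1 1) = false from rfl, show (!Nat.beq 22 1) = true from rfl, h.2, h'.1]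

end HexBase

end CfsgLib.JankoFour
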