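import Cfsg.Agent.Lib.ThreeTrans.M24Cent
import Cfsg.Agent.Lib.ThreeTrans.M24Listing
import Cfsg.Agent.Lib.JankoFourHexad.Ranks

/-!
# The numbers of involutions of M24 of either class (owner: helper14)
-/

set_option autoImplicit false
set_option maxRecDepth 100000

namespace CfsgLib.JankoFour.RankSeven

open Cfsg CfsgLib.Sporadic CfsgLib.ThreeTrans CfsgLib.ThreeTrans.M24Cls MulAction
open CfsgLib.ThreeTrans.M24Inv (peq peq_iff)

/-- The involutions among the fixer of five base points. -/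
noncomputable def fiveInv : List ℕ := fixFive.filter fun p => peq (pmul p p) pone && !peq p pone

theorem fiveInv_ok : (Nat.beq fiveInv.length 15 && distinctList (fiveInv.map canon) &&
    fixFive.all (fun p => isAut p && [3, 2, 1, 0, 23].all fun c => Nat.beq (pget p c) c)) = true := by
  decide +kernel

/-- An involution of M24 with `n` fixed points. -/
def IsInv (n : ℕ) (g : ↥M24) : Prop :=
  orderOf g = 2 ∧ (Finset.univ.filter fun x => (g : Equiv.Perm GolayPt) x = x).card = n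

theorem sq_one {g : ↥M24} (h : orderOf g = 2) :
    (g : Equiv.Perm GolayPt) * g = 1 ∧ (g : Equiv.Perm GolayPt) ≠ 1 := by
  constructor
  · rw [← Subgroup.coe_mul, ← pow_two, ← h, pow_orderOf_eq_one]; rfl
  · intro e
    rw [show g = 1 from Subtype.ext e, orderOf_one] at h
    norm_num at h

theorem isInv_cases {g : ↥M24} (h : orderOf g = 2) : IsInv 8 g ∨ IsInv 0 g := by
  obtain ⟨h2, h1⟩ := sq_one h
  by_cases hp : ∃ p, (g : Equiv.Perm GolayPt) p = p
  · obtain ⟨p, hp⟩ := hp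
    exact Or.inl ⟨h, card_fix_eight g.2 h2 h1 hp⟩
  · exact Or.inr ⟨h, Finset.card_eq_zero.2 (Finset.filter_eq_empty_iff.2 fun p _ e => hp ⟨p, e⟩)⟩

theorem free_of_isInv {g : ↥M24} (h : IsInv 0 g) (p : GolayPt) : (g : Equiv.Perm GolayPt) p ≠ p := fun e => by
  have := h.2
  rw [Finset.card_eq_zero, Finset.filter_eq_empty_iff] at this
  exact this (Finset.mem_univ p) e

theorem isInv_conj {n : ℕ} {g : ↥M24} (h : IsInv n g) (k : ↥M24) : IsInv n (k * g * k⁻¹) := by
  refine ⟨by rw [← h.1]; exact MulEquiv.orderOf_eq (MulAut.conj k) g, ?_⟩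
  rw [← h.2]
  have hx : ∀ x, ((k * g * k⁻¹ : ↥M24) : Equiv.Perm GolayPt) x =
      (k : Equiv.Perm GolayPt) ((g : Equiv.Perm GolayPt) ((k : Equiv.Perm GolayPt).symm x)) := fun _ => rfl
  refine Finset.card_equiv (k : Equiv.Perm GolayPt).symm fun x => ?_
  simp only [Finset.mem_filter, Finset.mem_univ, true_and, hx]
  exact ⟨fun e => by conv_rhs => rw [← e, Equiv.symm_apply_apply],
    fun e => by rw [e, Equiv.apply_symm_apply]⟩

/-- There are 31878 involutions without fixed points. -/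
theorem card_free : Nat.card {g : ↥M24 // IsInv 0 g} = 31878 := by
  classical
  obtain ⟨-, -, ⟨g0, hg0m, hg0, hf0⟩, hconj⟩ := M24Inv.main
  have hs : IsInv 0 ⟨g0, hg0m⟩ :=
    ⟨by rw [← hg0, ← Subgroup.orderOf_coe], Finset.card_eq_zero.2 (Finset.filter_eq_empty_iff.2 fun p _ => hf0 p)⟩
  set t : ↥M24 := ⟨g0, hg0m⟩
  have horb : MulAction.orbit (ConjAct ↥M24) t = {g | IsInv 0 g} := by
    ext g
    constructor
    · rintro ⟨k, rfl⟩
      exact isInv_conj hs (ConjAct.ofConjAct k)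
    · intro hg
      obtain ⟨k, hk, e⟩ := hconj g0 hg0m g g.2 hg0 (by rw [Subgroup.orderOf_coe]; exact hg.1)
        (iff_of_true hf0 (free_of_isInv hg))
      exact ⟨ConjAct.toConjAct ⟨k, hk⟩, Subtype.ext e⟩
  have hc := (free_involution_centralizer hg0m hg0 hf0).1
  have h := Nat.card_congr (MulAction.orbitProdStabilizerEquivGroup (ConjAct ↥M24) t)
  rw [Nat.card_prod, Nat.card_congr (ConjAct.ofConjAct (G := ↥M24)).toEquiv, M24_card,
    show Nat.card ↥(MulAction.stabilizer (ConjAct ↥M24) t) = 7680 from ?_, horb] at h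
  · have h' : Nat.card {g : ↥M24 // IsInv 0 g} * 7680 = 244823040 := h
    omega
  · rw [← hc]
    exact Nat.card_congr
      { toFun := fun c => ⟨((ConjAct.ofConjAct (c : ConjAct ↥M24) : ↥M24) : Equiv.Perm GolayPt),
          (ConjAct.ofConjAct (c : ConjAct ↥M24)).2, by
            have e : (ConjAct.ofConjAct (c : ConjAct ↥M24)) * t * (ConjAct.ofConjAct (c : ConjAct ↥M24))⁻¹ = t := c.2
            exact congrArg Subtype.val (mul_inv_eq_iff_eq_mul.1 e)⟩
        invFun := fun c => ⟨ConjAct.toConjAct ⟨c.1, c.2.1⟩, Subtype.ext (mul_inv_eq_iff_eq_mul.2 c.2.2)⟩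
        left_inv := fun _ => rfl
        right_inv := fun _ => rfl }

theorem five_base_count : Nat.card {g : ↥M24 // orderOf g = 2 ∧
    ∀ c ∈ [3, 2, 1, 0, 23], (g : Equiv.Perm GolayPt) (pt c) = pt c} = 15 := by
  classical
  haveI : Fact (Nat.Prime 2) := ⟨Nat.prime_two⟩
  have h := fiveInv_ok
  simp only [Bool.and_eq_true, Nat.beq_eq, List.all_eq_true] at h
  obtain ⟨⟨hlen, hd⟩, hall⟩ := h
  rw [← hlen, ← ncard_of_packed (P := fun σ => σ ∈ M24 ∧ (σ * σ = 1 ∧ σ ≠ 1) ∧ ∀ c ∈ [3, 2, 1, 0, 23], σ (pt c) = pt c)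
    hd (fun p hp => ?_) fun σ ⟨hσ, ⟨hs, hne⟩, hfix⟩ => ?_, ← Nat.card_coe_set_eq]
  · refine Nat.card_congr
      { toFun := fun g => ⟨(g.1 : Equiv.Perm GolayPt), g.1.2, sq_one g.2.1, g.2.2⟩
        invFun := fun σ => ⟨⟨σ.1, σ.2.1⟩, orderOf_eq_prime (Subtype.ext (by
            rw [Subgroup.coe_pow, pow_two]; exact σ.2.2.1.1)) (fun e => σ.2.2.1.2 (congrArg Subtype.val e)), σ.2.2.2⟩
        left_inv := fun _ => rfl
        right_inv := fun _ => rfl }
  · rw [fiveInv, List.mem_filter, Bool.and_eq_true, Bool.not_eq_true'] at hp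
    obtain ⟨ha, hc⟩ := hall p hp.1
    obtain ⟨σ, hσ, hr⟩ := exists_mem_M24 ha
    refine ⟨σ, hr, hσ, ⟨(peq_iff (hr.mul hr) Rep.one).1 hp.2.1, fun e => ?_⟩, fun c hcm => ix_injective ?_⟩
    · have h2 := hp.2.2
      rw [(peq_iff hr Rep.one).2 e] at h2
      exact Bool.noConfusion h2
    · have h24 : c < 24 := by revert c; decide
      rw [← hr, ix_pt h24, hc c hcm]
  · obtain ⟨p, hp, hr⟩ := mem_fixFive (mem_fixOf.2 ⟨hσ, hfix⟩)
    refine ⟨p, List.mem_filter.2 ⟨hp, ?_⟩, σ, hr, rfl⟩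
    rw [Bool.and_eq_true, Bool.not_eq_true']
    exact ⟨(peq_iff (hr.mul hr) Rep.one).2 hs, Bool.eq_false_iff.2 fun e => hne ((peq_iff hr Rep.one).1 e)⟩

/-- Fifteen involutions fix five given points. -/
theorem five_count (f : Fin 5 ↪ GolayPt) :
    Nat.card {g : ↥M24 // orderOf g = 2 ∧ ∀ i, (g : Equiv.Perm GolayPt) (f i) = f i} = 15 := by
  let base : Fin 5 ↪ GolayPt :=
    ⟨fun i => pt ([3, 2, 1, 0, 23].getD i.1 0), by
      have : ∀ i j : Fin 5, pt ([3, 2, 1, 0, 23].getD i.1 0) = pt ([3, 2, 1, 0, 23].getD j.1 0) → i = j := by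
        decide +kernel
      exact fun i j e => this i j e⟩
  obtain ⟨k, hk, e⟩ := exists_map_five_five base f
  rw [← five_base_count]
  set K : ↥M24 := ⟨k, hk⟩
  refine Nat.card_congr (Equiv.subtypeEquiv (MulAut.conj K⁻¹).toEquiv fun g => ?_)
  show _ ↔ orderOf (K⁻¹ * g * K⁻¹⁻¹) = 2 ∧ _
  rw [show orderOf (K⁻¹ * g * K⁻¹⁻¹) = orderOf g from MulEquiv.orderOf_eq (MulAut.conj K⁻¹) g]
  refine and_congr_right fun _ => ?_
  have key : ∀ i, (((MulAut.conj K⁻¹).toEquiv g : ↥M24) : Equiv.Perm GolayPt) (base i) = base i ↔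
      (g : Equiv.Perm GolayPt) (f i) = f i := fun i => by
    show (k⁻¹ * (g : Equiv.Perm GolayPt) * k⁻¹⁻¹) (base i) = base i ↔ _
    rw [inv_inv, Equiv.Perm.mul_apply, Equiv.Perm.mul_apply, e, Equiv.Perm.inv_eq_iff_eq, e]
  constructor
  · intro h c hc
    obtain ⟨i, rfl⟩ : ∃ i : Fin 5, [3, 2, 1, 0, 23].getD i.1 0 = c := by
      revert c; decide
    exact (key i).2 (h i)
  · intro h i
    refine (key i).1 (h _ ?_)
    revert i; decide

/-- There are 11385 involutions fixing an octad. -/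
theorem card_eight : Nat.card {g : ↥M24 // IsInv 8 g} = 11385 := by
  classical
  let A := {g : ↥M24 // IsInv 8 g}
  let e : (Σ a : A, Fin 5 ↪ {x : GolayPt // (a.1 : Equiv.Perm GolayPt) x = x}) ≃
      Σ f : Fin 5 ↪ GolayPt, {g : ↥M24 // orderOf g = 2 ∧ ∀ i, (g : Equiv.Perm GolayPt) (f i) = f i} :=
    { toFun := fun p => ⟨p.2.trans (Function.Embedding.subtype _), p.1.1, p.1.2.1, fun i => (p.2 i).2⟩
      invFun := fun q => ⟨⟨q.2.1, q.2.2.1, by
          obtain ⟨h2, h1⟩ := sq_one q.2.2.1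
          exact card_fix_eight q.2.1.2 h2 h1 (q.2.2.2 0)⟩,
        ⟨fun i => ⟨q.1 i, q.2.2.2 i⟩, fun i j h => q.1.injective (congrArg Subtype.val h)⟩⟩
      left_inv := fun _ => rfl
      right_inv := fun _ => rfl }
  haveI : Fintype A := Fintype.ofFinite A
  have h := Nat.card_congr e
  rw [Nat.card_sigma, Nat.card_sigma, Finset.sum_congr rfl (g := fun _ => 6720) (fun a _ => ?_),
    Finset.sum_congr rfl (g := fun _ => 15) (fun f _ => five_count f), Finset.sum_const, Finset.sum_const,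
    Finset.card_univ, Finset.card_univ, smul_eq_mul, smul_eq_mul, Fintype.card_embedding_eq] at h
  · show Nat.card A = _
    rw [← Nat.card_eq_fintype_card (α := A)] at h
    simp only [Fintype.card_fin, show Fintype.card GolayPt = 24 by simp [GolayPt]] at h
    rw [show Nat.descFactorial 24 5 = 5100480 by decide +kernel] at h
    omega
  · rw [Nat.card_eq_fintype_card, Fintype.card_embedding_eq, Fintype.card_fin, Fintype.card_subtype, a.2.2]
    rfl

end CfsgLib.JankoFour.RankSeven
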