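import Cfsg.Agent.Lib.JankoFourOrder.RankSeven.Suborbits
import Cfsg.Agent.Lib.JankoFourHexad.General

/-!
# The permutation representation of rank seven, from the order (owner: helper14)

* `rank_seven_of_order`: the statement for any elementary abelian subgroup of order `2 ^ 11`.
-/

set_option autoImplicit false
set_option linter.unusedSectionVars false

namespace CfsgLib.JankoFour

open Cfsg CfsgLib.ThreeTrans MulAction

variable {G : Type*} [Group G] [Finite G]

namespace RankSeven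

/-- The cosets of conjugate subgroups correspond, with the orbits of the subgroups. -/
theorem coset_transport (H : Subgroup G) (g : G) :
    ∃ φ : (G ⧸ H) ≃ (G ⧸ H.map (MulAut.conj g).toMonoidHom),
      ∀ q, orbit ↥(H.map (MulAut.conj g).toMonoidHom) (φ q) = φ '' orbit ↥H q := by
  let φ : (G ⧸ H) ≃ (G ⧸ H.map (MulAut.conj g).toMonoidHom) :=
    Quotient.congr (MulAut.conj g).toEquiv fun a b => by
      rw [QuotientGroup.leftRel_apply, QuotientGroup.leftRel_apply, mem_map_conj_iff']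
      show a⁻¹ * b ∈ H ↔ g⁻¹ * ((g * a * g⁻¹)⁻¹ * (g * b * g⁻¹)) * g ∈ H
      rw [show g⁻¹ * ((g * a * g⁻¹)⁻¹ * (g * b * g⁻¹)) * g = a⁻¹ * b by group]
  have hφ : ∀ a : G, φ (QuotientGroup.mk a) = QuotientGroup.mk (g * a * g⁻¹) := fun _ => rfl
  refine ⟨φ, fun q => ?_⟩
  obtain ⟨a, rfl⟩ := QuotientGroup.mk_surjective q
  ext r
  constructor
  · rintro ⟨⟨n, hn⟩, rfl⟩
    refine ⟨(⟨g⁻¹ * n * g, mem_map_conj_iff'.1 hn⟩ : ↥H) • (QuotientGroup.mk a : G ⧸ H), mem_orbit _ _, ?_⟩
    show φ (QuotientGroup.mk (g⁻¹ * n * g * a)) = n • φ (QuotientGroup.mk a)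
    rw [hφ, hφ]
    show _ = QuotientGroup.mk (n * (g * a * g⁻¹))
    congr 1
    group
  · rintro ⟨_, ⟨⟨h, hh⟩, rfl⟩, rfl⟩
    refine ⟨⟨g * h * g⁻¹, h, hh, rfl⟩, ?_⟩
    show (g * h * g⁻¹) • φ (QuotientGroup.mk a) = φ (QuotientGroup.mk (h * a))
    rw [hφ, hφ]
    show QuotientGroup.mk (g * h * g⁻¹ * (g * a * g⁻¹)) = _
    congr 1
    group

end RankSeven

/-- **The rank seven representation**, given the order of the group. -/
theorem rank_seven_of_order [IsSimpleGroup G] (hG : ¬ IsMulCommutative G) {z : G} (hJ : IsOfJankoFourTypeAt z)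
    (hord : Nat.card G = 86775571046077562880) {V : Subgroup G} (hV : IsElementaryAbelian 2 V)
    (hcard : Nat.card ↥V = 2 ^ 11) :
    (Subgroup.normalizer (V : Set G)).index = 173067389 ∧
      ∃ c : Fin 7 → G ⧸ Subgroup.normalizer (V : Set G),
        (∀ i j : Fin 7, i ≠ j → orbit ↥(Subgroup.normalizer (V : Set G)) (c i) ≠
          orbit ↥(Subgroup.normalizer (V : Set G)) (c j)) ∧
        (∀ q : G ⧸ Subgroup.normalizer (V : Set G), ∃ i : Fin 7,
          q ∈ orbit ↥(Subgroup.normalizer (V : Set G)) (c i)) ∧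
        (List.ofFn fun i => (orbit ↥(Subgroup.normalizer (V : Set G)) (c i)).ncard) =
          [1, 15180, 28336, 3400320, 32643072, 54405120, 82575360] := by
  have hord' : Nat.card G = CfsgLib.JankoFourLocals.ord4 := by
    rw [hord]; decide +kernel
  obtain ⟨S, hSz, B, g, rfl⟩ := exists_frame_conj hJ hV hcard
  subst hSz
  obtain ⟨hidx, c, hcover, hlist⟩ := B.seven_suborbits hG ⟨_, hJ⟩ hord' hJ
  rw [norm_map_conj]
  obtain ⟨φ, hφ⟩ := RankSeven.coset_transport B.NV g
  have hlist' : (List.ofFn fun i =>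
      (orbit ↥((Subgroup.normalizer (B.V : Set G)).map (MulAut.conj g).toMonoidHom) (φ (c i))).ncard) =
        [1, 15180, 28336, 3400320, 32643072, 54405120, 82575360] := by
    rw [← hlist]
    refine congrArg List.ofFn (funext fun i => ?_)
    show (orbit _ (φ (c i))).ncard = _
    rw [hφ, Set.ncard_image_of_injective _ φ.injective]
  refine ⟨?_, fun i => φ (c i), fun i j hij e => hij ?_, fun q => ?_, hlist'⟩
  · rw [← hidx]
    exact Nat.card_congr φ.symm
  · have hnd : (List.ofFn fun i =>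
        (orbit ↥((Subgroup.normalizer (B.V : Set G)).map (MulAut.conj g).toMonoidHom) (φ (c i))).ncard).Nodup := by
      rw [hlist']; decide
    exact List.nodup_ofFn.1 hnd (congrArg Set.ncard e)
  · obtain ⟨i, hi⟩ := hcover (φ.symm q)
    refine ⟨i, ?_⟩
    rw [hφ]
    exact ⟨φ.symm q, hi, φ.apply_symm_apply q⟩

end CfsgLib.JankoFour
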