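import Cfsg.Agent.Lib.JankoFourOrder.RankSeven.FixedFive
import Cfsg.Agent.Lib.JankoFourOrder.RankSeven.FixedThree
import Cfsg.Agent.Lib.JankoFourEleven.Mathieu

/-!
# The seven suborbits on the cosets of `N(V)` (owner: helper14)

* `seven_suborbits`: from the order of the group, seven suborbits with the given sizes.
-/

set_option autoImplicit false
set_option linter.unusedSectionVars false
set_option maxRecDepth 100000

namespace CfsgLib.JankoFour

open Cfsg CfsgLib.ThreeTrans CfsgLib.JankoFourHexad CfsgLib.JankoFourOrder CfsgLib.JankoFour.RankSeven MulAction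

variable {G : Type*} [Group G] [Finite G]

namespace RankSeven

theorem five_mod : ∀ d ≤ 11, 2 ^ d % 5 = 2 → d % 4 = 1 := by decide

theorem twentythree_arith : ∀ i < 11, ∀ a < 3, 2 ^ i * 3 ^ a % 23 = 1 →
    (23 * (2 ^ i * 3 ^ a) % 11 = 1 ∨ 2 ∣ 2 ^ i * 3 ^ a ∧ 23 * (2 ^ i * 3 ^ a) / 2 % 11 = 1) →
    2 ^ i * 3 ^ a = 24 ∨ 2 ^ i * 3 ^ a = 1 := by
  decide +kernel

theorem divisors_split {R : ℕ} (h : R ∣ 2 ^ 10 * (3 ^ 3 * (5 * 11))) (h27 : ¬ 27 ∣ R) :
    ∃ i < 11, ∃ a < 3, ∃ b < 2, ∃ e < 2, R = 2 ^ i * 3 ^ a * 5 ^ b * 11 ^ e := by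
  obtain ⟨r1, r', h1, h', rfl⟩ := Nat.dvd_mul.1 h
  obtain ⟨r2, r'', h2, h'', rfl⟩ := Nat.dvd_mul.1 h'
  obtain ⟨r3, r4, h3, h4, rfl⟩ := Nat.dvd_mul.1 h''
  obtain ⟨i, hi, rfl⟩ := (Nat.dvd_prime_pow Nat.prime_two).1 h1
  obtain ⟨a, ha, rfl⟩ := (Nat.dvd_prime_pow Nat.prime_three).1 h2
  obtain ⟨b, hb, rfl⟩ : ∃ b ≤ 1, r3 = 5 ^ b := (Nat.dvd_prime_pow Nat.prime_five).1 ((pow_one 5).symm ▸ h3)
  obtain ⟨e, he, rfl⟩ : ∃ e ≤ 1, r4 = 11 ^ e :=
    (Nat.dvd_prime_pow (by norm_num : Nat.Prime 11)).1 ((pow_one 11).symm ▸ h4)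
  refine ⟨i, by omega, a, ?_, b, by omega, e, by omega, by ring⟩
  by_contra ha3
  refine h27 (dvd_mul_of_dvd_right (dvd_mul_of_dvd_left ?_ _) _)
  rw [show a = 3 by omega]
  norm_num

end RankSeven

namespace HexBase

variable {S : Setting G} (B : HexBase S) [IsSimpleGroup G] (hG : ¬ IsMulCommutative G) (hJ : IsOfJankoFourType G)
  (hord : Nat.card G = CfsgLib.JankoFourLocals.ord4) (hz : IsOfJankoFourTypeAt S.z)

include hG hJ in
/-- A stabiliser with trivial `D` and order divisible by eleven but not five. -/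
theorem eleven_trivial {q : B.Om} (hD : Nat.card ↥(B.Dq q) = 1) (h11 : 11 ∣ Nat.card ↥(B.Mq q))
    (h5 : ¬ 5 ∣ Nat.card ↥(B.Mq q)) :
    ∃ r c, (r = 1 ∨ r = 2) ∧ c % 11 = 1 ∧ Nat.card ↥(B.Mq q) = 11 * r * c := by
  obtain ⟨Φ, -, hker, -⟩ := B.exists_phi hG hJ
  obtain ⟨r, hr, c, hc, e⟩ := sylow_eleven h11
    (fun h => B.not_sq_dvd_NV hG hJ (Or.inr (Or.inr (Or.inl rfl))) (h.trans (Subgroup.card_dvd_of_le inf_le_left)))
    fun a ha hao b hb hba => by
      haveI : Fact (Nat.Prime 11) := ⟨by norm_num⟩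
      have hinj : ∀ (u : G) (hu : u ∈ B.Mq q), Φ ⟨u, (Subgroup.mem_inf.1 hu).1⟩ = 1 → u = 1 := fun u hu h =>
        Subgroup.mem_bot.1 (Subgroup.card_eq_one.1 hD ▸
          Subgroup.mem_inf.2 ⟨(hker _).1 h, (Subgroup.mem_inf.1 hu).2⟩)
      have hΦa : orderOf (Φ ⟨a, (Subgroup.mem_inf.1 ha).1⟩) = 11 := by
        refine orderOf_eq_prime ?_ fun h => ?_
        · rw [← map_pow]
          refine (congrArg Φ (Subtype.ext ?_)).trans (map_one Φ)
          show a ^ 11 = 1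
          exact hao ▸ pow_orderOf_eq_one a
        · rw [hinj a ha h, orderOf_one] at hao
          norm_num at hao
      have hcomm : Commute (Φ ⟨b, (Subgroup.mem_inf.1 hb).1⟩) (Φ ⟨a, (Subgroup.mem_inf.1 ha).1⟩) :=
        (show Commute (⟨b, (Subgroup.mem_inf.1 hb).1⟩ : ↥B.NV) ⟨a, (Subgroup.mem_inf.1 ha).1⟩ from
          Subtype.ext hba.eq).map Φ
      obtain ⟨i, hi⟩ := Subgroup.mem_zpowers_iff.1
        ((CfsgLib.JankoFour.Eleven.m24_eleven hΦa).1 _ hcomm)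
      refine Subgroup.mem_zpowers_iff.2 ⟨i, ?_⟩
      have hmem : b * (a ^ i)⁻¹ ∈ B.Mq q := mul_mem hb (inv_mem (zpow_mem ha i))
      refine (mul_inv_eq_one.1 (hinj _ hmem ?_)).symm
      rw [show (⟨b * (a ^ i)⁻¹, (Subgroup.mem_inf.1 hmem).1⟩ : ↥B.NV) =
        ⟨b, (Subgroup.mem_inf.1 hb).1⟩ * (⟨a, (Subgroup.mem_inf.1 ha).1⟩ ^ i)⁻¹ from
          Subtype.ext (by simp), map_mul, map_inv, map_zpow, hi, mul_inv_cancel]
  refine ⟨r, c, ?_, hc, e⟩
  have hr5 : ¬ 5 ∣ r := fun h => h5 (e ▸ (h.mul_left 11).mul_right c)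
  have key : ∀ r ∈ Nat.divisors 10, ¬ 5 ∣ r → r = 1 ∨ r = 2 := by decide +kernel
  exact key r (Nat.mem_divisors.2 ⟨hr, by norm_num⟩) hr5

include hG hJ hord hz in
/-- The exponents of the stabiliser of a free coset. -/
theorem shape {q : B.Om} (hq : B.Free q) (h23 : ¬ 23 ∣ Nat.card ↥(B.Mq q)) :
    ∃ d : Fin 12, ∃ i : Fin 11, ∃ a : Fin 3, ∃ b : Fin 2, ∃ e : Fin 2,
      Nat.card ↥(B.Dq q) = 2 ^ d.1 ∧ okPar d i a b e = true ∧
      Nat.card ↥(B.Mq q) = 2 ^ (d.1 + i.1) * 3 ^ a.1 * 5 ^ b.1 * 11 ^ e.1 ∧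
      (5 ∣ Nat.card ↥(B.Mq q) ↔ b.1 = 1) := by
  obtain ⟨d, hd11, hd⟩ := B.exists_card_Dq q
  obtain ⟨R, hR, hM⟩ := B.card_Mq hG hJ q
  have hRM : R ∣ Nat.card ↥(B.Mq q) := ⟨_, hM.trans (mul_comm _ _)⟩
  have h1 : R ∣ 2 ^ 10 * (3 ^ 3 * (5 * 11)) := by
    have h7 : Nat.Coprime R (7 * 23) := Nat.Coprime.mul_right
      (((by norm_num : Nat.Prime 7).coprime_iff_not_dvd.2 fun h => B.not_seven_dvd hG hJ hord hz hq (h.trans hRM)).symm)
      (((by norm_num : Nat.Prime 23).coprime_iff_not_dvd.2 fun h => h23 (h.trans hRM)).symm)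
    exact h7.dvd_of_dvd_mul_right (show R ∣ 2 ^ 10 * (3 ^ 3 * (5 * 11)) * (7 * 23) from hR)
  obtain ⟨i, hi, a, ha, b, hb, e, he, hRe⟩ := divisors_split h1 fun h => B.not_twentyseven_dvd hG hJ hord hq (h.trans hRM)
  have hMq : Nat.card ↥(B.Mq q) = 2 ^ (d + i) * 3 ^ a * 5 ^ b * 11 ^ e := by rw [hM, hd, hRe, pow_add]; ring
  have h5 : 5 ∣ Nat.card ↥(B.Mq q) → d % 4 = 1 := fun h =>
    five_mod d hd11 (hd ▸ (B.five hG hJ hord hz).1 q hq h)
  have hb5 : 5 ∣ Nat.card ↥(B.Mq q) ↔ b = 1 := by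
    refine ⟨fun h => ?_, fun h => by rw [hMq, h, pow_one]; exact Dvd.dvd.mul_right (dvd_mul_left 5 _) _⟩
    by_contra hb1
    rw [hMq, show b = 0 by omega, pow_zero, mul_one] at h
    have hc : Nat.Coprime 5 (2 ^ (d + i) * 3 ^ a * 11 ^ e) :=
      Nat.Coprime.mul_right (Nat.Coprime.mul_right (Nat.Coprime.pow_right _ (by norm_num))
        (Nat.Coprime.pow_right _ (by norm_num))) (Nat.Coprime.pow_right _ (by norm_num))
    exact absurd (hc.eq_one_of_dvd h) (by norm_num)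
  refine ⟨⟨d, by omega⟩, ⟨i, hi⟩, ⟨a, ha⟩, ⟨b, hb⟩, ⟨e, he⟩, hd, ?_, hMq, hb5⟩
  simp only [okPar, Bool.and_eq_true, Bool.or_eq_true, beq_iff_eq, bne_iff_ne]
  refine ⟨⟨?_, ?_⟩, ?_⟩
  · rcases (show b = 0 ∨ b = 1 by omega) with h | h
    exacts [Or.inl h, Or.inr (h5 (hb5.2 h))]
  · refine or_iff_not_imp_left.2 fun h => ?_
    have h9 : 9 ∣ Nat.card ↥(B.Mq q) := by
      rw [hMq, show a = 2 from not_not.1 h]
      exact Dvd.dvd.mul_right (Dvd.dvd.mul_right (dvd_mul_left 9 _) _) _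
    have := B.three_dvd_of_nine hG hJ hq h9
    rw [hd] at this
    exact Nat.mod_eq_zero_of_dvd this
  · refine or_iff_not_imp_left.2 fun h => ?_
    have he1 : e = 1 := by omega
    have h11 : 11 ∣ Nat.card ↥(B.Mq q) := by rw [hMq, he1, pow_one]; exact dvd_mul_left 11 _
    by_cases hd0 : d = 0
    · rw [if_pos hd0]
      have hb0 : b = 0 := by
        by_contra hb0
        have := h5 (hb5.2 (by omega))
        omega
      obtain ⟨r, c, hr, hc, hrc⟩ := B.eleven_trivial hG hJ (by rw [hd, hd0, pow_zero]) h11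
        (fun h' => by have := hb5.1 h'; omega)
      have hM' : 2 ^ i * 3 ^ a * 11 = 11 * r * c := by
        rw [← hrc, hMq, hd0, zero_add, hb0, he1, pow_zero, pow_one, mul_one]
      unfold valid11
      rw [List.any_eq_true]
      refine ⟨r, by rcases hr with rfl | rfl <;> simp, ?_⟩
      rw [hM', Bool.and_eq_true, beq_iff_eq, beq_iff_eq, Nat.mul_mod_right,
        Nat.mul_div_cancel_left _ (by rcases hr with rfl | rfl <;> norm_num)]
      exact ⟨rfl, hc⟩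
    · rw [if_neg hd0, beq_iff_eq]
      have := B.eleven_dvd_of_eleven hG hJ hq h11
      rw [hd] at this
      exact Nat.mod_eq_zero_of_dvd this

include hG hJ hord hz in
/-- The suborbit with an element of order twenty-three. -/
theorem big_suborbit : ∃ q6 : B.Om, B.Free q6 ∧ (orbit ↥B.NV q6).ncard = 82575360 ∧
    Nat.card ↥(B.Dq q6) = 1 ∧ ∀ q, B.Free q → 23 ∣ Nat.card ↥(B.Mq q) → q ∈ orbit ↥B.NV q6 := by
  classical
  haveI : Fintype B.Om := Fintype.ofFinite _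
  obtain ⟨M⟩ := B.exists_nvModel hG hJ
  obtain ⟨q6, hq6, hall, hD, c, hc, hM⟩ := B.twentythree hG hJ hord
  refine ⟨q6, hq6, ?_, hD, hall⟩
  obtain ⟨R, hR, hM'⟩ := B.card_Mq hG hJ q6
  rw [hD, one_mul, hM] at hM'
  have h5 : ¬ 5 ∣ Nat.card ↥(B.Mq q6) := fun h => by
    have := (B.five hG hJ hord hz).1 q6 hq6 h
    rw [hD] at this
    norm_num at this
  have hcM : c ∣ Nat.card ↥(B.Mq q6) := ⟨253, by rw [hM, mul_comm]⟩
  have h1 : c ∣ 2 ^ 10 * (3 ^ 3 * (5 * 11)) := by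
    have h7 : Nat.Coprime c 7 :=
      ((by norm_num : Nat.Prime 7).coprime_iff_not_dvd.2 fun h => B.not_seven_dvd hG hJ hord hz hq6 (h.trans hcM)).symm
    have h : 253 * c ∣ 253 * (2 ^ 10 * (3 ^ 3 * 5) * 7) := hM' ▸ hR
    exact (h7.dvd_of_dvd_mul_right (Nat.dvd_of_mul_dvd_mul_left (by norm_num) h)).trans (by norm_num)
  obtain ⟨i, hi, a, ha, b, hb, e, he, hce⟩ :=
    divisors_split h1 fun h => B.not_twentyseven_dvd hG hJ hord hq6 (h.trans hcM)
  have hb0 : b = 0 := by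
    by_contra hb0
    refine h5 (dvd_trans ?_ hcM)
    rw [hce, show b = 1 by omega, pow_one]
    exact Dvd.dvd.mul_right (dvd_mul_left 5 _) _
  have he0 : e = 0 := by
    by_contra he0
    refine B.not_sq_dvd_NV hG hJ (Or.inr (Or.inr (Or.inl rfl)))
      (dvd_trans ?_ (Subgroup.card_dvd_of_le (inf_le_left : B.Mq q6 ≤ B.NV)))
    show 11 * 11 ∣ Nat.card ↥(B.Mq q6)
    rw [hM]
    exact mul_dvd_mul (by norm_num) (by rw [hce, show e = 1 by omega, pow_one]; exact dvd_mul_left 11 _)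
  simp only [hb0, he0, pow_zero, mul_one] at hce
  obtain ⟨r, c', hr, hc', hrc⟩ := B.eleven_trivial hG hJ hD (hM ▸ Dvd.dvd.mul_right (by norm_num) c) h5
  have hrc' : 23 * c = r * c' := by rw [hM] at hrc; ring_nf at hrc ⊢; omega
  have hval : 23 * c % 11 = 1 ∨ 2 ∣ c ∧ 23 * c / 2 % 11 = 1 := by
    rcases hr with rfl | rfl
    · exact Or.inl (by omega)
    · exact Or.inr ⟨(Nat.Coprime.dvd_mul_left (by norm_num : Nat.Coprime 2 23)).1 ⟨c', hrc'⟩, by omega⟩
  rw [hce] at hc hval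
  have horb := B.orbit_card M q6
  rw [hM] at horb
  rcases twentythree_arith i hi a ha hc hval with h | h <;> rw [hce, h] at horb
  · simp only [ordN] at horb
    omega
  · exfalso
    have hle : (orbit ↥B.NV q6).ncard ≤ 173023872 := by
      rw [← B.free_card hG hJ hord, Set.ncard_eq_toFinset_card']
      refine Finset.card_le_card fun r hr => Finset.mem_filter.2 ⟨Finset.mem_univ _, ?_⟩
      obtain ⟨⟨n, hn⟩, rfl⟩ := Set.mem_toFinset.1 hr
      exact B.free_smul hn hq6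
    simp only [ordN] at horb
    omega

include hG hJ hord hz in
/-- **The seven suborbits.** -/
theorem seven_suborbits : B.NV.index = 173067389 ∧ ∃ c : Fin 7 → B.Om,
    (∀ q : B.Om, ∃ i, q ∈ orbit ↥B.NV (c i)) ∧
    (List.ofFn fun i => (orbit ↥B.NV (c i)).ncard) =
      [1, 15180, 28336, 3400320, 32643072, 54405120, 82575360] := by
  classical
  haveI : Fintype B.Om := Fintype.ofFinite _
  obtain ⟨M⟩ := B.exists_nvModel hG hJ
  obtain ⟨q6, hq6, h6card, h6D, h6all⟩ := B.big_suborbit hG hJ hord hz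
  set F := Finset.univ.filter B.Free
  let rep : Set B.Om → B.Om := fun o => if h : o.Nonempty then h.some else B.base
  let A := F.image fun q => orbit ↥B.NV q
  let O := A.erase (orbit ↥B.NV q6)
  let f : Set B.Om → Ty := fun o =>
    (o.ncard, Nat.card ↥(B.Dq (rep o)) - 1, if 5 ∣ Nat.card ↥(B.Mq (rep o)) then 1 else 0)
  have h6A : orbit ↥B.NV q6 ∈ A := Finset.mem_image.2 ⟨q6, Finset.mem_filter.2 ⟨Finset.mem_univ _, hq6⟩, rfl⟩
  have hrep : ∀ o ∈ A, B.Free (rep o) ∧ orbit ↥B.NV (rep o) = o := by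
    intro o ho
    obtain ⟨q, hq, rfl⟩ := Finset.mem_image.1 ho
    have hne : (orbit ↥B.NV q).Nonempty := ⟨q, mem_orbit_self q⟩
    have hmem : rep (orbit ↥B.NV q) ∈ orbit ↥B.NV q := by
      simp only [rep, dif_pos hne]
      exact hne.some_mem
    refine ⟨?_, MulAction.orbit_eq_iff.2 hmem⟩
    obtain ⟨⟨n, hn⟩, e⟩ := hmem
    exact e ▸ B.free_smul hn (Finset.mem_filter.1 hq).2
  have hsum : ∀ g : B.Om → ℕ, (∀ a ∈ B.NV, ∀ q, g (a • q) = g q) →
      ∑ q ∈ F, g q = ∑ o ∈ A, o.ncard * g (rep o) := by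
    intro g hg
    rw [← Finset.sum_fiberwise_of_maps_to (fun q hq => Finset.mem_image_of_mem (fun q => orbit ↥B.NV q) hq)]
    refine Finset.sum_congr rfl fun o ho => ?_
    obtain ⟨hfree, horb⟩ := hrep o ho
    have hfib : F.filter (fun q => orbit ↥B.NV q = o) = o.toFinset := by
      ext q
      rw [Finset.mem_filter, Set.mem_toFinset]
      constructor
      · rintro ⟨-, rfl⟩; exact mem_orbit_self q
      · intro h
        rw [← horb] at h
        refine ⟨Finset.mem_filter.2 ⟨Finset.mem_univ _, ?_⟩, (MulAction.orbit_eq_iff.2 h).trans horb⟩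
        obtain ⟨⟨n, hn⟩, e⟩ := h
        exact e ▸ B.free_smul hn hfree
    rw [hfib, Finset.sum_congr rfl fun q hq => ?_, Finset.sum_const, smul_eq_mul, Set.ncard_eq_toFinset_card']
    rw [Set.mem_toFinset, ← horb] at hq
    obtain ⟨⟨n, hn⟩, e⟩ := hq
    exact e ▸ hg n hn _
  have hR : ∑ o ∈ O, (f o).1 = restR := by
    have h := hsum (fun _ => 1) fun _ _ _ => rfl
    rw [← Finset.card_eq_sum_ones, B.free_card hG hJ hord,
      ← Finset.add_sum_erase A (fun o => o.ncard * 1) h6A, mul_one, h6card] at h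
    show ∑ o ∈ O, o.ncard = restR
    have e : ∑ o ∈ A.erase (orbit ↥B.NV q6), o.ncard * 1 = ∑ o ∈ O, o.ncard :=
      Finset.sum_congr rfl fun o _ => mul_one _
    rw [e] at h
    simp only [restR]
    omega
  have hK : ∑ o ∈ O, (f o).2.1 * (f o).1 = restK := by
    have h := hsum (B.clD S.z) fun a ha q => B.clD_smul _ ha q
    rw [B.free_sum_zD hG hJ, Finset.sum_congr rfl (s₂ := A) (g := fun o => (f o).2.1 * (f o).1) fun o ho => ?_] at h
    · rw [← Finset.add_sum_erase A (fun o => (f o).2.1 * (f o).1) h6A] at h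
      have h0 : (f (orbit ↥B.NV q6)).2.1 = 0 := by
        obtain ⟨hfree, horb⟩ := hrep _ h6A
        have hm : rep (orbit ↥B.NV q6) ∈ orbit ↥B.NV q6 := MulAction.orbit_eq_iff.1 horb
        obtain ⟨⟨n, hn⟩, e⟩ := hm
        show Nat.card ↥(B.Dq (rep (orbit ↥B.NV q6))) - 1 = 0
        rw [← B.free_clD_z hG hJ hfree, ← e]
        show B.clD S.z (n • q6) = 0
        rw [B.clD_smul _ hn, B.free_clD_z hG hJ hq6, h6D]
      simp only [h0, zero_mul, zero_add] at h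
      exact h.symm
    · rw [B.free_clD_z hG hJ (hrep o ho).1, mul_comm]
  have hB : ∑ o ∈ O, (f o).2.2 ≤ 1 := by
    show ∑ o ∈ O, (if 5 ∣ Nat.card ↥(B.Mq (rep o)) then 1 else 0) ≤ 1
    rw [← Finset.card_filter, Finset.card_le_one]
    intro o ho o' ho'
    obtain ⟨ho, h⟩ := Finset.mem_filter.1 ho
    obtain ⟨ho', h'⟩ := Finset.mem_filter.1 ho'
    obtain ⟨hq, hoo⟩ := hrep o (Finset.mem_of_mem_erase ho)
    obtain ⟨hq', hoo'⟩ := hrep o' (Finset.mem_of_mem_erase ho')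
    exact hoo.symm.trans ((MulAction.orbit_eq_iff.2 ((B.five hG hJ hord hz).2 _ _ hq hq' h h')).symm.trans hoo')
  have hf : ∀ o ∈ O, f o ∈ types := by
    intro o ho
    obtain ⟨hq, hoo⟩ := hrep o (Finset.mem_of_mem_erase ho)
    have h23 : ¬ 23 ∣ Nat.card ↥(B.Mq (rep o)) := fun h =>
      Finset.ne_of_mem_erase ho (hoo.symm.trans (MulAction.orbit_eq_iff.2 (h6all _ hq h)))
    obtain ⟨d, i, a, b, e, hd, hok, hM, hb⟩ := B.shape hG hJ hord hz hq h23
    have hs := B.orbit_card M (rep o)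
    rw [hoo] at hs
    have hs' : o.ncard = ordN / Nat.card ↥(B.Mq (rep o)) := by rw [← hs, Nat.mul_div_cancel _ Nat.card_pos]
    have hmod : ordN % Nat.card ↥(B.Mq (rep o)) = 0 := by rw [← hs, Nat.mul_mod_left]
    have h1 : o.ncard ≤ restR := hR ▸ Finset.single_le_sum (f := fun o => (f o).1) (fun _ _ => Nat.zero_le _) ho
    have h2 : o.ncard * (2 ^ d.1 - 1) ≤ restK := by
      refine le_trans (le_of_eq ?_)
        (hK ▸ Finset.single_le_sum (f := fun o => (f o).2.1 * (f o).1) (fun _ _ => Nat.zero_le _) ho)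
      show _ = (Nat.card ↥(B.Dq (rep o)) - 1) * o.ncard
      rw [hd, mul_comm]
    rw [hM] at hs' hmod
    have hb' : (if 5 ∣ Nat.card ↥(B.Mq (rep o)) then 1 else 0) = b.1 := by
      by_cases h5 : 5 ∣ Nat.card ↥(B.Mq (rep o))
      · rw [if_pos h5, hb.1 h5]
      · rw [if_neg h5]
        have := b.2
        have : b.1 ≠ 1 := fun hb1 => h5 (hb.2 hb1)
        omega
    show (o.ncard, Nat.card ↥(B.Dq (rep o)) - 1, (if 5 ∣ Nat.card ↥(B.Mq (rep o)) then 1 else 0)) ∈ types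
    rw [hs', hd, hb']
    exact types_cover d i a b e hok hmod (hs' ▸ h1) (hs' ▸ h2)
  have hmap := types_unique O f hf hR hK hB
  have hnd : (O.val.map f).Nodup := hmap ▸ (by decide : (↑target : Multiset Ty).Nodup)
  have hget : ∀ t ∈ target, ∃ o ∈ O, f o = t := fun t ht => by
    have h : t ∈ O.val.map f := hmap ▸ Multiset.mem_coe.2 ht
    obtain ⟨o, ho, e⟩ := Multiset.mem_map.1 h
    exact ⟨o, ho, e⟩
  obtain ⟨o1, ho1, he1⟩ := hget (54405120, 0, 0) (by decide)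
  obtain ⟨o2, ho2, he2⟩ := hget (32643072, 1, 1) (by decide)
  obtain ⟨o3, ho3, he3⟩ := hget (3400320, 15, 0) (by decide)
  have hsize : ∀ o ∈ O, (orbit ↥B.NV (rep o)).ncard = (f o).1 := fun o ho => by
    rw [(hrep o (Finset.mem_of_mem_erase ho)).2]
  refine ⟨B.card_Om hG hJ hord,
    ![B.base, B.pt77 (rootFin true), B.pt77 (rootFin false), rep o3, rep o2, rep o1, q6], fun q => ?_, ?_⟩
  · by_cases hb : q = B.base
    · exact ⟨0, hb ▸ mem_orbit_self _⟩
    by_cases ht : q ∈ B.incOrbit true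
    · exact ⟨1, ht⟩
    by_cases hf' : q ∈ B.incOrbit false
    · exact ⟨2, hf'⟩
    have hqA : orbit ↥B.NV q ∈ A :=
      Finset.mem_image.2 ⟨q, Finset.mem_filter.2 ⟨Finset.mem_univ _, hb, fun b => by cases b <;> assumption⟩, rfl⟩
    by_cases h6 : orbit ↥B.NV q = orbit ↥B.NV q6
    · exact ⟨6, MulAction.orbit_eq_iff.1 h6⟩
    have hqO : orbit ↥B.NV q ∈ O := Finset.mem_erase.2 ⟨h6, hqA⟩
    have hval : f (orbit ↥B.NV q) ∈ target :=
      Multiset.mem_coe.1 (hmap ▸ Multiset.mem_map_of_mem f hqO)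
    have hin : ∀ o ∈ O, f (orbit ↥B.NV q) = f o → q ∈ orbit ↥B.NV (rep o) := fun o ho e => by
      rw [(hrep o (Finset.mem_of_mem_erase ho)).2,
        ← Multiset.inj_on_of_nodup_map hnd _ hqO _ ho e]
      exact mem_orbit_self q
    simp only [target, List.mem_cons, List.not_mem_nil, or_false] at hval
    rcases hval with h | h | h
    · exact ⟨5, hin o1 ho1 (h.trans he1.symm)⟩
    · exact ⟨4, hin o2 ho2 (h.trans he2.symm)⟩
    · exact ⟨3, hin o3 ho3 (h.trans he3.symm)⟩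
  · have h0 : (orbit ↥B.NV B.base).ncard = 1 := by
      refine Set.ncard_eq_one.2 ⟨B.base, Set.eq_singleton_iff_unique_mem.2 ⟨mem_orbit_self _, ?_⟩⟩
      rintro _ ⟨n, rfl⟩
      exact B.smul_base n.2
    have h1 : (orbit ↥B.NV (B.pt77 (rootFin true))).ncard = 15180 := B.incOrbit_card hG hJ true
    have h2 : (orbit ↥B.NV (B.pt77 (rootFin false))).ncard = 28336 := B.incOrbit_card hG hJ false
    simp [List.ofFn_succ, List.ofFn_zero, h0, h1, h2, hsize _ ho1, hsize _ ho2, hsize _ ho3, he1, he2, he3, h6card]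

end HexBase

end CfsgLib.JankoFour
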